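import Mathlib
import Cfsg.Agent.ClassicalGeometry.OrthAutSylow

/-!
# ODD, D4, rows `Ω^±_2n(2)`: quadratic forms over the field with two elements
-/

set_option autoImplicit false
set_option linter.unusedSectionVars false

namespace Cfsg.Agent.OddHalf.D4.O2

open QuadraticMap Cfsg.Agent.LieClassical.OrthCore Cfsg.Agent.LieClassical.OrthTrans
  Cfsg.Agent.ClassicalGeometry.OrthAutBasic Cfsg.Agent.ClassicalGeometry.OrthAutRoot
  Cfsg.Agent.ClassicalGeometry.OrthAutSylow

variable {F V : Type*} [Field F] [AddCommGroup V] [Module F V] {Q : QuadraticForm F V}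

/-- The field has two elements. -/
def Two (F : Type*) [Field F] : Prop := ∀ a : F, a = 0 ∨ a = 1

namespace Two

variable (h2 : Two F)

include h2

theorem two : (1 : F) + 1 = 0 := by
  rcases h2 (1 + 1) with h | h
  · exact h
  · exfalso
    exact one_ne_zero (α := F) (by linear_combination h)

theorem two' : (2 : F) = 0 := by
  have := h2.two
  linear_combination this

theorem eq_one {a : F} (h : a ≠ 0) : a = 1 := (h2 a).resolve_left h

theorem eq_zero {a : F} (h : a ≠ 1) : a = 0 := (h2 a).resolve_right h

theorem add_self (v : V) : v + v = 0 := by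
  have : v + v = ((1 : F) + 1) • v := by rw [add_smul, one_smul]
  rw [this, h2.two, zero_smul]

theorem neg_eq (v : V) : -v = v := (eq_neg_of_add_eq_zero_left (h2.add_self v)).symm

theorem sub_eq (v w : V) : v - w = v + w := by rw [sub_eq_add_neg, h2.neg_eq]

theorem addF (a : F) : a + a = 0 := by
  have := h2.two
  linear_combination a * this

theorem negF (a : F) : -a = a := (eq_neg_of_add_eq_zero_left (h2.addF a)).symm

theorem eq_of_add {v w : V} (h : v + w = 0) : v = w := by
  rw [← h2.neg_eq w]; exact eq_neg_of_add_eq_zero_left h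

theorem finite : Finite F := by
  have h : Function.Surjective (fun b : Bool => if b then (1 : F) else 0) := by
    intro a
    rcases h2 a with h | h
    · exact ⟨false, by simp [h]⟩
    · exact ⟨true, by simp [h]⟩
  exact Finite.of_surjective _ h

theorem polar_self (v : V) : polar Q v v = 0 := by
  rw [polar_self', h2.two', zero_mul]

/-- multiples of a vector -/
theorem smul_cases {u v : V} (h : ∃ c : F, v = c • u) : v = 0 ∨ v = u := by
  obtain ⟨c, rfl⟩ := h
  rcases h2 c with rfl | rfl
  · left; rw [zero_smul]
  · right; rw [one_smul]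

theorem mem_span {u v : V} : v ∈ Submodule.span F {u} ↔ v = 0 ∨ v = u := by
  rw [Submodule.mem_span_singleton]
  constructor
  · rintro ⟨c, rfl⟩
    exact h2.smul_cases ⟨c, rfl⟩
  · rintro (rfl | rfl)
    · exact ⟨0, zero_smul _ _⟩
    · exact ⟨1, one_smul _ _⟩

theorem mem_span_pair {u w v : V} : v ∈ Submodule.span F {u, w} ↔ v = 0 ∨ v = u ∨ v = w ∨ v = u + w := by
  rw [Submodule.mem_span_pair]
  constructor
  · rintro ⟨a, b, rfl⟩
    rcases h2 a with rfl | rfl <;> rcases h2 b with rfl | rfl <;> simp
  · rintro (rfl | rfl | rfl | rfl)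
    · exact ⟨0, 0, by simp⟩
    · exact ⟨1, 0, by simp⟩
    · exact ⟨0, 1, by simp⟩
    · exact ⟨1, 1, by simp⟩

/-- `T` over the field with two elements. -/
theorem T_apply {u w : V} (hu : Q u = 0) (hw : polar Q u w = 0) (v : V) :
    T Q u w v = v + polar Q u v • w + polar Q w v • u + (Q w * polar Q u v) • u := by
  rw [Cfsg.Agent.ClassicalGeometry.OrthAutBasic.T_apply hu hw, h2.sub_eq, h2.sub_eq]

theorem T_perp {u w v : V} (hu : Q u = 0) (hw : polar Q u w = 0) (hv : polar Q u v = 0) :
    T Q u w v = v + polar Q w v • u := by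
  rw [Cfsg.Agent.ClassicalGeometry.OrthAutBasic.T_apply_perp hu hw hv, h2.sub_eq]

theorem T_swap {u w : V} (hu : Q u = 0) (hw : Q w = 0) (huw : polar Q u w = 0) :
    T Q u w = T Q w u := by
  rw [Cfsg.Agent.ClassicalGeometry.OrthAutBasic.T_swap hu hw huw, h2.neg_eq]

theorem T_sq {u w : V} : T Q u w * T Q u w = 1 := by
  by_cases h : Q u = 0 ∧ polar Q u w = 0
  · rw [T_mul h.1 h.2 h.2, h2.add_self, T_zero_right]
  · rw [T_eq_one h, mul_one]

theorem T_inv {u w : V} : (T Q u w)⁻¹ = T Q u w := inv_eq_of_mul_eq_one_left h2.T_sq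

theorem T_add_self {u w : V} (hu : Q u = 0) (hw : polar Q u w = 0) : T Q u (w + u) = T Q u w := by
  have := T_add_smul (Q := Q) hu hw (1 : F)
  rwa [one_smul] at this

theorem T_self {u : V} : T Q u u = 1 := by
  by_cases hu : Q u = 0
  · have := h2.T_add_self (Q := Q) hu (polar_zero_right _ u)
    rw [zero_add, T_zero_right] at this
    exact this
  · exact T_eq_one fun h => hu h.1

/-- lines over the field with two elements -/
theorem ln {u w : V} (hu : Q u = 0) (hw : Q w = 0) (huw : polar Q u w = 0) (hu0 : u ≠ 0) (hw0 : w ≠ 0)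
    (hne : w ≠ u) : Ln Q u w :=
  ⟨hu, hw, huw, hu0, fun c hc => by
    rcases h2.smul_cases ⟨c, hc⟩ with h | h
    · exact hw0 h
    · exact hne h⟩

theorem Q_add_eq (x y : V) : Q (x + y) = Q x + Q y + polar Q x y := Q_add x y

end Two

theorem Ln.ne2 {u w : V} (h : Ln Q u w) : w ≠ u := by
  have := h.ind 1
  rwa [one_smul] at this

/-- The elements of `O Q` commute with `T` as follows. -/
theorem conj_T {g : V ≃ₗ[F] V} (hg : g ∈ O Q) (u w : V) : g * T Q u w * g⁻¹ = T Q (g u) (g w) := T_conj hg u w

/-! ### Existence of vectors -/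

/-- A singular vector orthogonal to given vectors and outside a given subspace. -/
theorem exists_sing_avoid [Finite F] {k : ℕ} (u : Fin k → V) (B : Submodule F V)
    (h : k + Module.finrank F B + 3 ≤ Module.finrank F V) :
    ∃ r, Q r = 0 ∧ (∀ i, polar Q (u i) r = 0) ∧ r ∉ B := by
  have : Module.Finite F V := Module.finite_of_finrank_pos (by omega)
  obtain ⟨C, hC⟩ := B.exists_isCompl
  have hd : Module.finrank F B + Module.finrank F C = Module.finrank F V :=
    Submodule.finrank_add_eq_of_isCompl hC
  let f : C →ₗ[F] (Fin k → F) := (LinearMap.pi fun i => polarBilin Q (u i)).comp C.subtype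
  have h1 := LinearMap.finrank_range_add_finrank_ker f
  have h2 : Module.finrank F (LinearMap.range f) ≤ k := by
    have := Submodule.finrank_le (LinearMap.range f)
    rwa [Module.finrank_fin_fun] at this
  have h3 : Module.finrank F ((LinearMap.ker f).map C.subtype) = Module.finrank F (LinearMap.ker f) :=
    Submodule.finrank_map_subtype_eq _ _
  obtain ⟨r, hr, hr0, hrQ⟩ := exists_sing_of_three_le (Q := Q) ((LinearMap.ker f).map C.subtype) (by omega)
  obtain ⟨c, hc, rfl⟩ := hr
  refine ⟨c, hrQ, fun i => ?_, fun hB => ?_⟩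
  · have := congrFun (LinearMap.mem_ker.1 hc) i
    simpa [f] using this
  · apply hr0
    have := hC.disjoint
    rw [Submodule.disjoint_def] at this
    exact this _ hB c.2

/-- A vector orthogonal to given vectors and outside a given subspace. -/
theorem exists_avoid {k : ℕ} (u : Fin k → V) (B : Submodule F V)
    (h : k + Module.finrank F B < Module.finrank F V) :
    ∃ r, (∀ i, polar Q (u i) r = 0) ∧ r ∉ B := by
  have : Module.Finite F V := Module.finite_of_finrank_pos (by omega)
  let f : V →ₗ[F] (Fin k → F) := LinearMap.pi fun i => polarBilin Q (u i)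
  have h1 := LinearMap.finrank_range_add_finrank_ker f
  have h2 : Module.finrank F (LinearMap.range f) ≤ k := by
    have := Submodule.finrank_le (LinearMap.range f)
    rwa [Module.finrank_fin_fun] at this
  have h3 : ¬ LinearMap.ker f ≤ B := by
    intro hle
    have := Submodule.finrank_mono hle
    omega
  obtain ⟨r, hr, hrB⟩ := SetLike.not_le_iff_exists.1 h3
  refine ⟨r, fun i => ?_, hrB⟩
  have := congrFun (LinearMap.mem_ker.1 hr) i
  simpa [f] using this

theorem finrank_span_le {k : ℕ} (u : Fin k → V) : Module.finrank F (Submodule.span F (Set.range u)) ≤ k := by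
  have := finrank_range_le_card (R := F) u
  rwa [Fintype.card_fin, Set.finrank] at this

theorem finrank_span_singleton_le (u : V) : Module.finrank F (Submodule.span F {u}) ≤ 1 := by
  have := finrank_span_le (F := F) ![u]
  rwa [Matrix.range_cons, Matrix.range_empty, Set.union_empty] at this

theorem finrank_span_pair_le (u v : V) : Module.finrank F (Submodule.span F {u, v}) ≤ 2 := by
  have := finrank_span_le (F := F) ![u, v]
  rwa [Matrix.range_cons, Matrix.range_cons, Matrix.range_empty, Set.union_empty, Set.singleton_union] at this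

/-- Make a vector with `b(e, f) = 1`, `e` singular, singular. -/
theorem Two.sing_of (h2 : Two F) {e x : V} (he : Q e = 0) (hex : polar Q e x = 1) :
    ∃ c : F, Q (x + c • e) = 0 ∧ polar Q e (x + c • e) = 1 := by
  refine ⟨Q x, ?_, ?_⟩
  · rw [Q_add, QuadraticMap.map_smul, he, polar_smul_right, polar_comm Q x e, hex]
    simp only [smul_eq_mul, mul_zero, add_zero, mul_one]
    exact h2.addF _
  · rw [polar_add_right, polar_smul_right, h2.polar_self, hex]
    simp

end Cfsg.Agent.OddHalf.D4.O2
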