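import Mathlib
import Cfsg.Agent.AutOrth.Main
import Cfsg.Agent.OddHalf.D4.O2.Base

/-!
# ODD, D4, rows `Ω^±_2n(2)`: `Aut Ω(V) = O(V)`
-/

set_option autoImplicit false
set_option linter.unusedSectionVars false

namespace Cfsg.Agent.OddHalf.D4.O2

open QuadraticMap Cfsg.Agent.LieClassical.OrthCore Cfsg.Agent.LieClassical.OrthTrans
  Cfsg.Agent.ClassicalGeometry.OrthAut1 Cfsg.Agent.AutOrth.SemiSim

variable {F V : Type*} [Field F] [AddCommGroup V] [Module F V] {Q : QuadraticForm F V}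

theorem center_bot (h2 : Two F) (hG : Good Q) : Subgroup.center ↥(E Q) = ⊥ := by
  rw [eq_bot_iff]
  intro z hz
  rw [Subgroup.mem_bot]
  obtain ⟨c, hc⟩ := center_scalar hG hz
  obtain ⟨x, hx0, _⟩ := hG.sing
  rcases h2 c with e | e
  · exfalso
    have h3 := hc x
    rw [e, zero_smul] at h3
    exact hx0 ((LinearEquiv.map_eq_zero_iff _).1 h3)
  · apply Subtype.ext
    ext v
    rw [hc v, e, one_smul]
    rfl

/-- `E Q ≃ P Q`. -/
noncomputable def eP (h2 : Two F) (hG : Good Q) : ↥(E Q) ≃* P Q :=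
  MulEquiv.ofBijective (QuotientGroup.mk' (Subgroup.center ↥(E Q)))
    ⟨by
      rw [← MonoidHom.ker_eq_bot_iff, QuotientGroup.ker_mk']
      exact center_bot h2 hG, QuotientGroup.mk'_surjective _⟩

theorem eP_apply (h2 : Two F) (hG : Good Q) (x : ↥(E Q)) : eP h2 hG x = (x : P Q) := rfl

/-- **Every automorphism of `Ω(V)` is conjugation by an isometry.** -/
theorem exists_iso [Finite F] [FiniteDimensional F V] (h2 : Two F) (hG : Good Q) (h7 : 7 ≤ Module.finrank F V)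
    (h8 : Module.finrank F V = 8 → ∀ W : Submodule F V, TS Q W → Module.finrank F W ≠ 4) (α : MulAut ↥(E Q)) :
    ∃ g ∈ O Q, ∀ x : ↥(E Q), ((α x : ↥(E Q)) : V ≃ₗ[F] V) = g * x * g⁻¹ := by
  obtain ⟨M, σ, c, hM, h⟩ := Cfsg.Agent.ClassicalGeometry.OrthAut4.exists_semi_P hG h7
    (MulAut.congr (eP h2 hG) α) (Cfsg.Agent.AutOrth.Main.pt_of_no_four hG h7 h8 _)
  have hσ : ∀ a : F, σ a = a := by
    intro a
    rcases h2 a with e | e
    · rw [e, map_zero]
    · rw [e, map_one]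
  have hc : c = 1 := h2.eq_one hM.ne
  let g : V ≃ₗ[F] V := M.toLinearEquiv (by
    intro a v
    rw [hM.smul, hσ])
  have hg : g ∈ O Q := by
    intro v
    show Q (M v) = Q v
    rw [hM.form, hc, one_mul, hσ]
  refine ⟨g, hg, fun x => ?_⟩
  have h3 := h x
  have h4 : MulAut.congr (eP h2 hG) α (x : P Q) = eP h2 hG (α x) := by
    show eP h2 hG (α ((eP h2 hG).symm (x : P Q))) = _
    rw [← eP_apply h2 hG, MulEquiv.symm_apply_apply]
  rw [h4] at h3
  have h5 : α x = conjE hM x := (eP h2 hG).injective h3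
  rw [h5]
  ext v
  obtain ⟨v, rfl⟩ := M.surjective v
  rw [conjE_apply]
  show M _ = g ((x : V ≃ₗ[F] V) (g.symm (M v)))
  have h6 : g.symm (M v) = v := g.symm_apply_apply v
  rw [h6]
  rfl

end Cfsg.Agent.OddHalf.D4.O2
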