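import Mathlib
import Cfsg.Agent.OddHalf.D4.O2.Base

/-!
# ODD, D4, rows `Ω^±_2n(2)`: involutions of type `c₂` are not in `N`
-/

set_option autoImplicit false
set_option linter.unusedSectionVars false

namespace Cfsg.Agent.OddHalf.D4.O2

open QuadraticMap Cfsg.Agent.LieClassical.OrthCore Cfsg.Agent.LieClassical.OrthTrans
  Cfsg.Agent.ClassicalGeometry.OrthAutBasic Cfsg.Agent.ClassicalGeometry.OrthAutRoot
  Cfsg.Agent.ClassicalGeometry.OrthAutSylow

variable {F V : Type*} [Field F] [AddCommGroup V] [Module F V] {Q : QuadraticForm F V}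

/-- The traces `D = K ∩ N(L)`, `N = K ∩ C(L)` in the group `E Q`. -/
structure OC (Q : QuadraticForm F V) (D N : Subgroup (V ≃ₗ[F] V)) : Prop where
  le : N ≤ D
  DE : D ≤ E Q
  norm : ∀ d ∈ D, ∀ n ∈ N, d * n * d⁻¹ ∈ N
  cenN : ∀ n ∈ N, n ≠ 1 → n * n = 1 → ∀ x ∈ E Q, x * n = n * x → x ∈ D
  sig : ∀ u w, Ln Q u w → T Q u w ∉ N

/-- `g` centralises `w` and `[g, C(w)] ≤ N`. -/
structure Gd (Q : QuadraticForm F V) (N : Subgroup (V ≃ₗ[F] V)) (w g : V ≃ₗ[F] V) : Prop where
  mO : g ∈ O Q
  comm : g * w = w * g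
  mem : ∀ h ∈ E Q, h * w = w * h → g * h * g⁻¹ * h⁻¹ ∈ N

/-- `p` singular, `q` nonsingular, orthogonal. -/
structure PQ (Q : QuadraticForm F V) (p q : V) : Prop where
  qp : Q p = 0
  p0 : p ≠ 0
  pq : polar Q p q = 0
  qq : Q q = 1

theorem comm_of_fix {g : V ≃ₗ[F] V} (hg : g ∈ O Q) {u w : V} (hu : g u = u) (hw : g w = w) :
    g * T Q u w = T Q u w * g := by
  have := T_conj hg u w
  rw [hu, hw, mul_inv_eq_iff_eq_mul] at this
  exact this

theorem T_comm {u w w' : V} (hu : Q u = 0) (hw : polar Q u w = 0) (hw' : polar Q u w' = 0) :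
    T Q u w * T Q u w' = T Q u w' * T Q u w := by
  rw [T_mul hu hw hw', T_mul hu hw' hw, add_comm]

section

variable (h2 : Two F) {D N : Subgroup (V ≃ₗ[F] V)}

include h2

theorem PQ.sw {p q : V} (h : PQ Q p q) : PQ Q p (q + p) where
  qp := h.qp
  p0 := h.p0
  pq := by rw [polar_add_right, h.pq, h2.polar_self, add_zero]
  qq := by rw [Q_add, h.qp, h.qq, polar_comm, h.pq]; simp

theorem PQ.qp' {p q : V} (h : PQ Q p q) : polar Q q p = 0 := by rw [polar_comm, h.pq]

theorem PQ.q0 {p q : V} (h : PQ Q p q) : q ≠ 0 := by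
  rintro rfl
  have := h.qq
  rw [QuadraticMap.map_zero] at this
  exact zero_ne_one this

theorem PQ.ne {p q : V} (h : PQ Q p q) : p ≠ q := by
  rintro rfl
  have := h.qq
  rw [h.qp] at this
  exact zero_ne_one this

theorem PQ.nsm {p q : V} (h : PQ Q p q) : ∀ c : F, q ≠ c • p := by
  intro c hc
  rcases h2.smul_cases ⟨c, hc⟩ with h' | h'
  · exact PQ.q0 h2 h h'
  · exact PQ.ne h2 h h'.symm

theorem PQ.nsm' {p q : V} (h : PQ Q p q) : ∀ c : F, p ≠ c • q := by
  intro c hc
  rcases h2.smul_cases ⟨c, hc⟩ with h' | h'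
  · exact h.p0 h'
  · exact PQ.ne h2 h h'

theorem PQ.T_apply {p q : V} (h : PQ Q p q) (x : V) :
    T Q p q x = x + polar Q p x • q + polar Q q x • p + polar Q p x • p := by
  rw [h2.T_apply h.qp h.pq, h.qq, one_mul]

theorem PQ.T_ne_one (hQ : Nondeg Q) {p q : V} (h : PQ Q p q) : T Q p q ≠ 1 := by
  intro e
  obtain ⟨x, hx1, hx2⟩ := exists_sep hQ (PQ.nsm h2 h)
  have h3 : T Q p q x = x := by rw [e]; rfl
  rw [PQ.T_apply h2 h, hx1, hx2] at h3
  apply h.p0
  simpa using h3

/-- An isometry commuting with `T p q` fixes `p`. -/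
theorem PQ.fix_p (hQ : Nondeg Q) {p q : V} (h : PQ Q p q) {g : V ≃ₗ[F] V} (hg : g ∈ O Q)
    (hc : g * T Q p q = T Q p q * g) : g p = p := by
  obtain ⟨x, hx1, hx2⟩ := exists_sep hQ (PQ.nsm h2 h)
  have h3 : g (T Q p q x) = T Q p q (g x) := congrArg (fun f : V ≃ₗ[F] V => f x) hc
  rw [PQ.T_apply h2 h, PQ.T_apply h2 h, hx1, hx2, zero_smul, zero_smul, add_zero, add_zero, one_smul, map_add,
    add_assoc, add_assoc] at h3
  have h4 := add_left_cancel h3
  rcases h2 (polar Q p (g x)) with h5 | h5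
  · rw [h5, zero_smul, zero_smul, zero_add, add_zero] at h4
    rcases h2 (polar Q q (g x)) with h6 | h6
    · rw [h6, zero_smul] at h4
      exact absurd ((LinearEquiv.map_eq_zero_iff g).1 h4) h.p0
    · rw [h6, one_smul] at h4
      exact h4
  · exfalso
    have h7 : Q (g p) = 0 := by rw [mem_O.1 hg, h.qp]
    rw [h4, h5, one_smul, one_smul] at h7
    have h8 : q + (polar Q q (g x) • p + p) = q + (polar Q q (g x) + 1) • p := by module
    rw [h8, Q_add, QuadraticMap.map_smul, polar_smul_right, h.qp, h.qq, PQ.qp' h2 h] at h7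
    simp at h7

/-- Elements fixing `p` and `q` are in `D`. -/
theorem OC.mem_D (oc : OC Q D N) (hQ : Nondeg Q) {p q : V} (h : PQ Q p q) (hw : T Q p q ∈ N)
    {g : V ≃ₗ[F] V} (hg : g ∈ E Q) (hc : g * T Q p q = T Q p q * g) : g ∈ D :=
  oc.cenN _ hw (PQ.T_ne_one h2 hQ h) h2.T_sq g hg hc

/-- `N ∩ Q_p = ⟨w⟩`. -/
theorem OC.step1 [Finite F] (oc : OC Q D N) (hQ : Nondeg Q) (hd : 8 ≤ Module.finrank F V) {p q : V}
    (h : PQ Q p q) (hw : T Q p q ∈ N) {v : V} (hv : polar Q p v = 0) (hN : T Q p v ∈ N) :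
    v = 0 ∨ v = p ∨ v = q ∨ v = q + p := by
  have : FiniteDimensional F V := Module.finite_of_finrank_pos (by omega)
  by_contra hcon
  push Not at hcon
  obtain ⟨n0, np, nq, nqp⟩ := hcon
  rcases h2 (Q v) with hv1 | hv1
  · exact oc.sig _ _ (h2.ln h.qp hv1 hv h.p0 n0 np) hN
  rcases h2 (polar Q q v) with hq | hq
  · have h3 : T Q p (q + v) ∈ N := by
      rw [← T_mul h.qp h.pq hv]
      exact N.mul_mem hw hN
    refine oc.sig _ _ (h2.ln h.qp ?_ ?_ h.p0 ?_ ?_) h3
    · rw [Q_add, h.qq, hv1, hq, add_zero, h2.two]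
    · rw [polar_add_right, h.pq, hv, add_zero]
    · intro e
      exact nq (h2.eq_of_add e).symm
    · intro e
      apply nqp
      rw [← e, ← add_assoc, h2.add_self, zero_add]
  · obtain ⟨r, hr, hr1, hrp⟩ := exists_sing_avoid (Q := Q) ![p, q, v] (Submodule.span F {p}) (by
      have := finrank_span_singleton_le (F := F) p
      omega)
    have hpr : polar Q p r = 0 := hr1 0
    have hqr : polar Q q r = 0 := hr1 1
    have hvr : polar Q v r = 0 := hr1 2
    have hvS : v ∉ Submodule.span F {p, q, r} := by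
      intro hmem
      have hle : Submodule.span F {p, q, r} ≤ LinearMap.ker (polarBilin Q q) := by
        rw [Submodule.span_le]
        rintro z (rfl | rfl | rfl)
        · simpa using PQ.qp' h2 h
        · simpa using h2.polar_self (Q := Q) z
        · simpa using hqr
      have := hle hmem
      rw [LinearMap.mem_ker, polarBilin_apply_apply, hq] at this
      exact one_ne_zero this
    obtain ⟨s, hs1, hs2⟩ := exists_sep_sub hQ hvS
    have hps : polar Q p s = 0 := hs2 p (Submodule.subset_span (by simp))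
    have hqs : polar Q q s = 0 := hs2 q (Submodule.subset_span (by simp))
    have hrs : polar Q r s = 0 := hs2 r (Submodule.subset_span (by simp))
    have gp : T Q r s p = p := T_fix (by rw [polar_comm, hpr]) (by rw [polar_comm, hps])
    have gq : T Q r s q = q := T_fix (by rw [polar_comm, hqr]) (by rw [polar_comm, hqs])
    have gv : T Q r s v = v + r := by
      rw [h2.T_perp hr hrs (by rw [polar_comm, hvr]), polar_comm Q s v, hs1, one_smul]
    have gD : T Q r s ∈ D := OC.mem_D h2 oc hQ h hw (T_mem_E r s) (comm_of_fix (T_mem_O r s) gp gq)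
    have h3 := oc.norm _ gD _ hN
    rw [T_conj (T_mem_O r s), gp, gv] at h3
    have h4 := N.mul_mem hN h3
    have hvr' : polar Q p (v + r) = 0 := by rw [polar_add_right, hv, hpr, add_zero]
    rw [T_mul h.qp hv hvr', ← add_assoc, h2.add_self, zero_add] at h4
    have hr0 : r ≠ 0 := fun e => hrp (by rw [e]; exact Submodule.zero_mem _)
    have hrp' : r ≠ p := fun e => hrp (by rw [e]; exact Submodule.mem_span_singleton_self _)
    exact oc.sig _ _ (h2.ln h.qp hr hpr h.p0 hr0 hrp') h4

/-- `[g, Q_p] ≤ N ∩ Q_p`. -/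
theorem OC.step2 [Finite F] (oc : OC Q D N) (hQ : Nondeg Q) (hd : 8 ≤ Module.finrank F V) {p q : V}
    (h : PQ Q p q) (hw : T Q p q ∈ N) {g : V ≃ₗ[F] V} (hg : Gd Q N (T Q p q) g) {v : V}
    (hv : polar Q p v = 0) (hqv : polar Q q v = 0) : g v = v ∨ g v = v + p := by
  have gp := PQ.fix_p h2 hQ h hg.mO hg.comm
  have hpv : polar Q p (g v) = 0 := by
    have := polar_map hg.mO p v
    rw [gp] at this
    rw [this, hv]
  have h3 := hg.mem (T Q p v) (T_mem_E p v) (T_comm h.qp hv h.pq)
  rw [T_conj hg.mO, gp, h2.T_inv, T_mul h.qp hpv hv] at h3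
  have hpv2 : polar Q p (g v + v) = 0 := by rw [polar_add_right, hpv, hv, add_zero]
  have hQg : Q (g v) = Q v := mem_O.1 hg.mO v
  have key : ∀ z, g v + v = z → g v = v + z := by
    intro z hz
    rw [← hz, add_comm (g v) v, ← add_assoc, h2.add_self, zero_add]
  rcases OC.step1 h2 oc hQ hd h hw hpv2 h3 with h4 | h4 | h4 | h4
  · left
    have := key _ h4
    rwa [add_zero] at this
  · right
    exact key _ h4
  · exfalso
    rw [key _ h4, Q_add, h.qq, polar_comm, hqv, add_zero] at hQg
    exact one_ne_zero (by linear_combination hQg : (1 : F) = 0)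
  · exfalso
    rw [key _ h4, Q_add, (PQ.sw h2 h).qq, polar_add_right, polar_comm Q v q, hqv, polar_comm Q v p, hv] at hQg
    exact one_ne_zero (by linear_combination hQg : (1 : F) = 0)

/-- `g` is trivial on `⟨p, q⟩^⊥`. -/
theorem OC.step3 [Finite F] (oc : OC Q D N) (hQ : Nondeg Q) (hd : 8 ≤ Module.finrank F V) {p q : V}
    (h : PQ Q p q) (hw : T Q p q ∈ N) {g : V ≃ₗ[F] V} (hg : Gd Q N (T Q p q) g) {s : V}
    (hs : polar Q p s = 0) (hqs : polar Q q s = 0) : g s = s := by
  have gp := PQ.fix_p h2 hQ h hg.mO hg.comm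
  rcases OC.step2 h2 oc hQ hd h hw hg hs hqs with h3 | h3
  · exact h3
  exfalso
  obtain ⟨y, hy⟩ := hQ.exists_polar_eq h.p0 1
  obtain ⟨r, hr, hr1, hrp⟩ := exists_sing_avoid (Q := Q) ![p, q, s, y + g y] (Submodule.span F {p}) (by
    have := finrank_span_singleton_le (F := F) p
    omega)
  have hpr : polar Q p r = 0 := hr1 0
  have hqr : polar Q q r = 0 := hr1 1
  have hsr : polar Q s r = 0 := hr1 2
  have hyr : polar Q (y + g y) r = 0 := hr1 3
  have hr0 : r ≠ 0 := fun e => hrp (by rw [e]; exact Submodule.zero_mem _)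
  have hrp' : r ≠ p := fun e => hrp (by rw [e]; exact Submodule.mem_span_singleton_self _)
  have gr : g r = r := by
    rcases OC.step2 h2 oc hQ hd h hw hg hpr hqr with h4 | h4
    · exact h4
    · exfalso
      have h5 := polar_map hg.mO r y
      have h6 : polar Q p (g y) = 1 := by
        have := polar_map hg.mO p y
        rw [gp] at this
        rw [this, hy]
      rw [h4, polar_add_left, h6, polar_comm Q r (g y), polar_comm Q r y] at h5
      rw [polar_add_left] at hyr
      have h7 := h2.addF (polar Q (g y) r)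
      exact one_ne_zero (by linear_combination h5 + hyr - h7 : (1 : F) = 0)
  have hrs : polar Q r s = 0 := by rw [polar_comm, hsr]
  have hrp2 : polar Q r p = 0 := by rw [polar_comm, hpr]
  have ep : T Q r s p = p := T_fix hrp2 (by rw [polar_comm, hs])
  have eq : T Q r s q = q := T_fix (by rw [polar_comm, hqr]) (by rw [polar_comm, hqs])
  have h5 := hg.mem (T Q r s) (T_mem_E r s) (comm_of_fix (T_mem_O r s) ep eq)
  have hrsp : polar Q r (s + p) = 0 := by rw [polar_add_right, hrs, hrp2, add_zero]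
  rw [T_conj hg.mO, gr, h3, h2.T_inv, T_mul hr hrsp hrs, add_comm s p, add_assoc, h2.add_self, add_zero] at h5
  exact oc.sig _ _ (h2.ln hr h.qp hrp2 hr0 h.p0 hrp'.symm) h5

/-- Vectors orthogonal to the orthogonal complement of `p, q`. -/
theorem mem_pair (hQ : Nondeg Q) [FiniteDimensional F V] {p q z : V}
    (h : ∀ x, polar Q p x = 0 → polar Q q x = 0 → polar Q z x = 0) : z = 0 ∨ z = p ∨ z = q ∨ z = p + q := by
  rw [← h2.mem_span_pair]
  by_contra hn
  obtain ⟨y, hy1, hy2⟩ := exists_sep_sub hQ hn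
  have := h y (hy2 p (Submodule.subset_span (by simp))) (hy2 q (Submodule.subset_span (by simp)))
  rw [hy1] at this
  exact one_ne_zero this

theorem refl_apply2 {q : V} (hq : Q q = 1) (hq' : Q q ≠ 0) (x : V) :
    refl Q q hq' x = x + polar Q q x • q := by
  rw [refl_apply, hq, h2.sub_eq, inv_one, one_mul]

/-- Isometries which are trivial on `⟨p, q⟩^⊥`. -/
theorem PQ.four (hQ : Nondeg Q) [FiniteDimensional F V] {p q : V} (h : PQ Q p q) {g : V ≃ₗ[F] V} (hg : g ∈ O Q)
    (hfix : ∀ x, polar Q p x = 0 → polar Q q x = 0 → g x = x) (hq' : Q q ≠ 0) :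
    g = 1 ∨ g = T Q p q ∨ g = refl Q q hq' ∨ g = T Q p q * refl Q q hq' := by
  obtain ⟨e0, he0q, he0p⟩ := exists_sep hQ (PQ.nsm' h2 h)
  obtain ⟨e1, he1p, he1q⟩ := exists_sep hQ (PQ.nsm h2 h)
  have agree : ∀ g' : V ≃ₗ[F] V, (∀ x, polar Q p x = 0 → polar Q q x = 0 → g' x = x) → g' e0 = g e0 →
      g' e1 = g e1 → g = g' := by
    intro g' h3 h4 h5
    ext x
    have h6 : x = polar Q p x • e0 + polar Q q x • e1 + (x - polar Q p x • e0 - polar Q q x • e1) := by module
    have h7 : polar Q p (x - polar Q p x • e0 - polar Q q x • e1) = 0 := by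
      rw [polar_sub_right, polar_sub_right, polar_smul_right, polar_smul_right, he0p, he1p]
      simp
    have h8 : polar Q q (x - polar Q p x • e0 - polar Q q x • e1) = 0 := by
      rw [polar_sub_right, polar_sub_right, polar_smul_right, polar_smul_right, he0q, he1q]
      simp
    rw [h6, map_add, map_add, map_smul, map_smul, hfix _ h7 h8, map_add, map_add, map_smul, map_smul,
      h3 _ h7 h8, h4, h5]
  have hz : ∀ e : V, ∀ x, polar Q p x = 0 → polar Q q x = 0 → polar Q (g e + e) x = 0 := by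
    intro e x hx1 hx2
    have h3 := polar_map hg e x
    rw [hfix x hx1 hx2] at h3
    rw [polar_add_left, h3]
    exact h2.addF _
  have hz1 := mem_pair h2 hQ (hz e1)
  have hz0 := mem_pair h2 hQ (hz e0)
  have key : ∀ e z, g e + e = z → g e = e + z := by
    intro e z hz
    rw [← hz, add_comm (g e) e, ← add_assoc, h2.add_self, zero_add]
  have he0p' : polar Q e0 p = 1 := by rw [polar_comm, he0p]
  have he0q' : polar Q e0 q = 0 := by rw [polar_comm, he0q]
  have he1p' : polar Q e1 p = 0 := by rw [polar_comm, he1p]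
  have he1q' : polar Q e1 q = 1 := by rw [polar_comm, he1q]
  have hqp := PQ.qp' h2 h
  have hqq : polar Q q q = 0 := h2.polar_self _
  have hpp : polar Q p p = 0 := h2.polar_self _
  have hQ0 : Q (g e0) = Q e0 := mem_O.1 hg e0
  -- `g e0 = e0` or `g e0 = e0 + (p + q)`
  have h0 : g e0 = e0 ∨ g e0 = e0 + (p + q) := by
    rcases hz0 with h3 | h3 | h3 | h3
    · left
      have := key _ _ h3
      rwa [add_zero] at this
    · exfalso
      rw [key _ _ h3, Q_add, h.qp, he0p'] at hQ0
      exact one_ne_zero (by linear_combination hQ0 : (1 : F) = 0)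
    · exfalso
      rw [key _ _ h3, Q_add, h.qq, he0q'] at hQ0
      exact one_ne_zero (by linear_combination hQ0 : (1 : F) = 0)
    · right
      exact key _ _ h3
  have hB := polar_map hg e0 e1
  have tfix : ∀ x, polar Q p x = 0 → polar Q q x = 0 → refl Q q hq' x = x := by
    intro x _ hx2
    rw [refl_apply2 h2 h.qq, hx2, zero_smul, add_zero]
  have wfix : ∀ x, polar Q p x = 0 → polar Q q x = 0 → T Q p q x = x := by
    intro x hx1 hx2
    exact T_fix hx1 hx2
  have w0 : T Q p q e0 = e0 + (p + q) := by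
    rw [PQ.T_apply h2 h, he0p, he0q]
    module
  have w1 : T Q p q e1 = e1 + p := by
    rw [PQ.T_apply h2 h, he1p, he1q]
    module
  have t0 : refl Q q hq' e0 = e0 := by
    rw [refl_apply2 h2 h.qq, he0q, zero_smul, add_zero]
  have t1 : refl Q q hq' e1 = e1 + q := by
    rw [refl_apply2 h2 h.qq, he1q, one_smul]
  have wq : T Q p q q = q := T_fix h.pq (h2.polar_self q)
  rcases hz1 with h3 | h3 | h3 | h3
  · have g1 : g e1 = e1 := by
      have := key _ _ h3
      rwa [add_zero] at this
    rcases h0 with g0 | g0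
    · left
      exact agree 1 (fun x _ _ => rfl) g0.symm g1.symm
    · exfalso
      rw [g0, g1, polar_add_left, polar_add_left, he1p, he1q] at hB
      exact one_ne_zero (by linear_combination hB : (1 : F) = 0)
  · have g1 := key _ _ h3
    rcases h0 with g0 | g0
    · exfalso
      rw [g0, g1, polar_add_right, he0p'] at hB
      exact one_ne_zero (by linear_combination hB : (1 : F) = 0)
    · right; left
      exact agree _ wfix (w0.trans g0.symm) (w1.trans g1.symm)
  · have g1 := key _ _ h3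
    rcases h0 with g0 | g0
    · right; right; left
      exact agree _ tfix (t0.trans g0.symm) (t1.trans g1.symm)
    · exfalso
      rw [g0, g1] at hB
      simp only [polar_add_left, polar_add_right, he1p, he1q, he0q', h.pq, hqq] at hB
      exact one_ne_zero (by linear_combination hB : (1 : F) = 0)
  · have g1 := key _ _ h3
    rcases h0 with g0 | g0
    · exfalso
      rw [g0, g1] at hB
      simp only [polar_add_right, he0p', he0q'] at hB
      exact one_ne_zero (by linear_combination hB : (1 : F) = 0)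
    · right; right; right
      refine agree _ (fun x hx1 hx2 => ?_) ?_ ?_
      · show T Q p q (refl Q q hq' x) = x
        rw [tfix x hx1 hx2, wfix x hx1 hx2]
      · show T Q p q (refl Q q hq' e0) = _
        rw [t0, w0, g0]
      · show T Q p q (refl Q q hq' e1) = _
        rw [t1, map_add, w1, wq, g1, add_assoc]

/-- `T p v` from three involutions of type `c₂`. -/
theorem PQ.prod3 {p q v : V} (h : PQ Q p q) (hv : Q v = 0) (hv0 : v ≠ 0) (hpv : polar Q p v = 0)
    (hqv : polar Q q v = 0) : T Q p q * (T Q v q * T Q (p + v) q) = T Q p v := by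
  have hvq : polar Q v q = 0 := by rw [polar_comm, hqv]
  have hvp : polar Q v p = 0 := by rw [polar_comm, hpv]
  have hs : Q (p + v) = 0 := by rw [Q_add, h.qp, hv, hpv]; simp
  have hsq : polar Q (p + v) q = 0 := by rw [polar_add_left, h.pq, hvq, add_zero]
  have hqp := PQ.qp' h2 h
  have hqq : polar Q q q = 0 := h2.polar_self _
  have hpp : polar Q p p = 0 := h2.polar_self _
  have hvv : polar Q v v = 0 := h2.polar_self _
  have h22 := h2.two'
  ext x
  show T Q p q (T Q v q (T Q (p + v) q x)) = T Q p v x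
  rw [h2.T_apply hs hsq, h2.T_apply hv hvq, h2.T_apply h.qp h.pq, h2.T_apply h.qp hpv]
  simp only [polar_add_right, polar_add_left, polar_smul_right, h.qq, hv, hvq, hvp, hpv, hqv, hqp, hqq, hpp, hvv,
    h.pq, smul_eq_mul, mul_zero, add_zero, zero_add, one_mul, zero_mul, zero_smul]
  generalize polar Q p x = a
  generalize polar Q v x = b
  generalize polar Q q x = c
  rw [← sub_eq_zero]
  have : x + (a + b) • q + c • (p + v) + (a + b) • (p + v) + b • q + c • v + b • v + a • q + c • p + a • p -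
      (x + a • v + b • p) = (2 * (a + b)) • q + (2 * c + 2 * a) • p + (2 * c + 2 * b) • v := by module
  refine Eq.trans ?_ (this.trans ?_)
  · module
  · rw [h22]; simp

/-- The centraliser of the reflection `t_q` is not in `D` if `T p q ∈ N`. -/
theorem OC.no_refl [Finite F] (oc : OC Q D N) (hQ : Nondeg Q) (hd : 8 ≤ Module.finrank F V) {p q : V}
    (h : PQ Q p q) (hw : T Q p q ∈ N) (hq' : Q q ≠ 0)
    (hC : ∀ x ∈ E Q, x * refl Q q hq' = refl Q q hq' * x → x ∈ D) : False := by
  have : FiniteDimensional F V := Module.finite_of_finrank_pos (by omega)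
  obtain ⟨v, hv, hv1, hvp⟩ := exists_sing_avoid (Q := Q) ![p, q] (Submodule.span F {p}) (by
    have := finrank_span_singleton_le (F := F) p
    omega)
  have hpv : polar Q p v = 0 := hv1 0
  have hqv : polar Q q v = 0 := hv1 1
  have hv0 : v ≠ 0 := fun e => hvp (by rw [e]; exact Submodule.zero_mem _)
  have hvp' : v ≠ p := fun e => hvp (by rw [e]; exact Submodule.mem_span_singleton_self _)
  have hvq : v ≠ q := by
    rintro rfl
    exact hq' hv
  have hpp : polar Q p p = 0 := h2.polar_self _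
  have hcomm : ∀ g : V ≃ₗ[F] V, g ∈ E Q → g q = q → g ∈ D := by
    intro g hg hgq
    apply hC g hg
    have h3 : Q (g q) ≠ 0 := by rw [hgq]; exact hq'
    have h4 := refl_conj (E_le_O hg) hq' h3
    have h5 : refl Q (g q) h3 = refl Q q hq' := by
      congr 1
    rw [h5, mul_inv_eq_iff_eq_mul] at h4
    exact h4
  have hpN : p ∉ Submodule.span F {q, p + v} := by
    rw [h2.mem_span_pair]
    rintro (e | e | e | e)
    · exact h.p0 e
    · exact PQ.ne h2 h e
    · exact hv0 (by simpa using e)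
    · have e2 : q + v = 0 := by
        have : p + (q + v) = p + 0 := by rw [add_zero]; nth_rewrite 2 [e]; abel
        exact add_left_cancel this
      exact hvq (h2.eq_of_add e2).symm
  obtain ⟨s, hs1, hs2⟩ := exists_sep_sub hQ hpN
  have hqs : polar Q q s = 0 := hs2 q (Submodule.subset_span (by simp))
  have hpvs : polar Q (p + v) s = 0 := hs2 (p + v) (Submodule.subset_span (by simp))
  have hQpv : Q (p + v) = 0 := by rw [Q_add, h.qp, hv, hpv]; simp
  have hqp := PQ.qp' h2 h
  have a1 : T Q (p + v) s p = v := by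
    rw [h2.T_perp hQpv hpvs (by rw [polar_add_left, hpp, polar_comm Q v p, hpv, add_zero]), polar_comm Q s p,
      hs1, one_smul, ← add_assoc, h2.add_self, zero_add]
  have a2 : T Q (p + v) s q = q := T_fix (by rw [polar_add_left, h.pq, polar_comm Q v q, hqv, add_zero])
    (by rw [polar_comm, hqs])
  have hpN' : p ∉ Submodule.span F {q, v} := by
    rw [h2.mem_span_pair]
    rintro (e | e | e | e)
    · exact h.p0 e
    · exact PQ.ne h2 h e
    · exact hvp' e.symm
    · have e2 : Q p = Q (q + v) := by rw [← e]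
      rw [Q_add, h.qp, h.qq, hv, hqv] at e2
      simp at e2
  obtain ⟨s', hs1', hs2'⟩ := exists_sep_sub hQ hpN'
  have hqs' : polar Q q s' = 0 := hs2' q (Submodule.subset_span (by simp))
  have hvs' : polar Q v s' = 0 := hs2' v (Submodule.subset_span (by simp))
  have b1 : T Q v s' p = p + v := by
    rw [h2.T_perp hv hvs' (by rw [polar_comm, hpv]), polar_comm Q s' p, hs1', one_smul]
  have b2 : T Q v s' q = q := T_fix (by rw [polar_comm, hqv]) (by rw [polar_comm, hqs'])
  have n1 := oc.norm _ (hcomm _ (T_mem_E _ _) a2) _ hw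
  rw [T_conj (T_mem_O _ _), a1, a2] at n1
  have n2 := oc.norm _ (hcomm _ (T_mem_E _ _) b2) _ hw
  rw [T_conj (T_mem_O _ _), b1, b2] at n2
  have n3 := N.mul_mem hw (N.mul_mem n1 n2)
  rw [PQ.prod3 h2 h hv hv0 hpv hqv] at n3
  exact oc.sig _ _ (h2.ln h.qp hv hpv h.p0 hv0 hvp') n3

end

end Cfsg.Agent.OddHalf.D4.O2
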