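import Mathlib
import Cfsg.Agent.OddHalf.D4.O2.Base

/-!
# ODD, D4, rows `Ω^±_2n(2)`: no four-group of `O(V)` whose involutions centralise the same root elements
-/

set_option autoImplicit false
set_option linter.unusedSectionVars false

namespace Cfsg.Agent.OddHalf.D4.O2

open QuadraticMap Cfsg.Agent.LieClassical.OrthCore Cfsg.Agent.LieClassical.OrthTrans
  Cfsg.Agent.ClassicalGeometry.OrthAutBasic Cfsg.Agent.ClassicalGeometry.OrthAutRoot
  Cfsg.Agent.ClassicalGeometry.OrthAutSylow

variable {F V : Type*} [Field F] [AddCommGroup V] [Module F V] {Q : QuadraticForm F V}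

/-- A four-group `⟨a, b⟩` of isometries whose involutions centralise the same root elements. -/
structure Cst (Q : QuadraticForm F V) (a b : V ≃ₗ[F] V) : Prop where
  aO : a ∈ O Q
  bO : b ∈ O Q
  aa : a * a = 1
  bb : b * b = 1
  ab : a * b = b * a
  a1 : a ≠ 1
  b1 : b ≠ 1
  ne : a ≠ b
  cst : ∀ y y', (y = a ∨ y = b ∨ y = a * b) → (y' = a ∨ y' = b ∨ y' = a * b) → ∀ u w, Ln Q u w →
    y * T Q u w = T Q u w * y → y' * T Q u w = T Q u w * y'

section

variable (h2 : Two F)

include h2

/-- A singular vector in `U` outside `B`. -/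
theorem exists_sing_in [FiniteDimensional F V] (U B : Submodule F V)
    (h : Module.finrank F B + 3 ≤ Module.finrank F U) : ∃ r ∈ U, Q r = 0 ∧ r ∉ B := by
  have := h2.finite
  let B' : Submodule F U := B.comap U.subtype
  obtain ⟨C, hC⟩ := B'.exists_isCompl
  have hd : Module.finrank F B' + Module.finrank F C = Module.finrank F U :=
    Submodule.finrank_add_eq_of_isCompl hC
  have hB' : Module.finrank F B' ≤ Module.finrank F B := by
    have h3 : Module.finrank F (B'.map U.subtype) = Module.finrank F B' := Submodule.finrank_map_subtype_eq _ _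
    rw [← h3]
    apply Submodule.finrank_mono
    rintro _ ⟨x, hx, rfl⟩
    exact hx
  have h3 : Module.finrank F (C.map U.subtype) = Module.finrank F C := Submodule.finrank_map_subtype_eq _ _
  obtain ⟨r, hr, hr0, hrQ⟩ := exists_sing_of_three_le (Q := Q) (C.map U.subtype) (by omega)
  obtain ⟨c, hc, rfl⟩ := hr
  refine ⟨c, c.2, hrQ, fun hB => hr0 ?_⟩
  have := hC.disjoint
  rw [Submodule.disjoint_def] at this
  have h4 : c = 0 := this c hB hc
  rw [h4]; rfl

theorem exists_in (U B : Submodule F V) [FiniteDimensional F V]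
    (h : Module.finrank F B < Module.finrank F U) : ∃ r ∈ U, r ∉ B := by
  by_contra hn
  push Not at hn
  have := Submodule.finrank_mono (show U ≤ B from hn)
  omega

/-- The fixed vectors of `y` orthogonal to `v`. -/
def UU (Q : QuadraticForm F V) (y : V ≃ₗ[F] V) (v : V) : Submodule F V :=
  LinearMap.ker (y.toLinearMap - LinearMap.id) ⊓ LinearMap.ker (polarBilin Q v)

omit h2 in
theorem mem_UU {y : V ≃ₗ[F] V} {v x : V} : x ∈ UU Q y v ↔ y x = x ∧ polar Q v x = 0 := by
  rw [UU, Submodule.mem_inf, LinearMap.mem_ker, LinearMap.mem_ker, LinearMap.sub_apply, LinearMap.id_apply,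
    sub_eq_zero, polarBilin_apply_apply]
  rfl

theorem fix_of_perp (hQ : Nondeg Q) {y : V ≃ₗ[F] V} (hy : y ∈ O Q) (hyy : ∀ x, y (y x) = x) {x : V}
    (h : ∀ z, polar Q (y z + z) x = 0) : y x = x := by
  apply h2.eq_of_add
  apply hQ
  intro z
  have h3 := h z
  rw [polar_add_left] at h3
  have h4 := polar_map hy z (y x)
  rw [hyy] at h4
  rw [polar_comm, polar_add_right, ← h4]
  exact h3

/-- Two singular lines through `v` consisting of fixed vectors. -/
theorem exists_lines (hQ : Nondeg Q) [FiniteDimensional F V] (hd : 8 ≤ Module.finrank F V) {y : V ≃ₗ[F] V}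
    (hy : y ∈ O Q) (hyy : ∀ x, y (y x) = x) {v : V} (hv : Q v = 0) (hyv : y v = v) :
    ∃ r1 r2, (Q r1 = 0 ∧ y r1 = r1 ∧ polar Q v r1 = 0) ∧ (Q r2 = 0 ∧ y r2 = r2 ∧ polar Q v r2 = 0) ∧
      r1 ∉ Submodule.span F {v} ∧ r2 ∉ Submodule.span F {v, r1} := by
  set U := UU Q y v with hU
  let W : Submodule F V := LinearMap.range (y.toLinearMap - LinearMap.id) ⊔ Submodule.span F {v}
  have hWmem : ∀ z, y z + z ∈ W := by
    intro z
    apply Submodule.mem_sup_left
    exact ⟨z, by rw [LinearMap.sub_apply, LinearMap.id_apply, h2.sub_eq]; rfl⟩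
  have hvW : v ∈ W := Submodule.mem_sup_right (Submodule.mem_span_singleton_self v)
  have hvU : v ∈ U := mem_UU.2 ⟨hyv, h2.polar_self v⟩
  have hWU : W ≤ U := by
    apply sup_le
    · rintro _ ⟨z, rfl⟩
      rw [LinearMap.sub_apply, LinearMap.id_apply, h2.sub_eq]
      refine mem_UU.2 ⟨?_, ?_⟩
      · show y (y z + z) = y z + z
        rw [map_add, hyy, add_comm]
      · show polar Q v (y z + z) = 0
        have h3 := polar_map hy v z
        rw [hyv] at h3
        rw [polar_add_right, h3]
        exact h2.addF _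
    · rw [Submodule.span_le]
      rintro z rfl
      exact hvU
  -- `W^⊥ ≤ U`
  let f : V →ₗ[F] Module.Dual F W :=
    { toFun := fun x => (polarBilin Q x).comp W.subtype
      map_add' := fun x x' => by
        ext s
        simp
      map_smul' := fun c x => by
        ext s
        simp }
  have hker : LinearMap.ker f ≤ U := by
    intro x hx
    have h3 : ∀ s ∈ W, polar Q s x = 0 := by
      intro s hs
      have := LinearMap.congr_fun (LinearMap.mem_ker.1 hx) ⟨s, hs⟩
      rw [polar_comm]
      simpa [f] using this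
    exact mem_UU.2 ⟨fix_of_perp h2 hQ hy hyy fun z => h3 _ (hWmem z), h3 v hvW⟩
  have h3 := LinearMap.finrank_range_add_finrank_ker f
  have h4 : Module.finrank F (LinearMap.range f) ≤ Module.finrank F W := by
    have := Submodule.finrank_le (LinearMap.range f)
    rwa [Subspace.dual_finrank_eq] at this
  have h5 := Submodule.finrank_mono hker
  have h6 := Submodule.finrank_mono hWU
  have hsv := finrank_span_singleton_le (F := F) v
  by_cases h7 : 5 ≤ Module.finrank F U
  · obtain ⟨r1, hr1, q1, n1⟩ := exists_sing_in (Q := Q) h2 U (Submodule.span F {v}) (by omega)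
    have hsp := finrank_span_pair_le (F := F) v r1
    obtain ⟨r2, hr2, q2, n2⟩ := exists_sing_in (Q := Q) h2 U (Submodule.span F {v, r1}) (by omega)
    have m1 := mem_UU.1 hr1
    have m2 := mem_UU.1 hr2
    exact ⟨r1, r2, ⟨q1, m1.1, m1.2⟩, ⟨q2, m2.1, m2.2⟩, n1, n2⟩
  · have hWU' : W = U := Submodule.eq_of_le_of_finrank_le hWU (by omega)
    have hiso : ∀ s ∈ U, ∀ t ∈ U, polar Q s t = 0 := by
      intro s hs t ht
      have hker' : LinearMap.ker f = U := Submodule.eq_of_le_of_finrank_le hker (by omega)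
      rw [← hker'] at hs
      have := LinearMap.congr_fun (LinearMap.mem_ker.1 hs) ⟨t, by rw [hWU']; exact ht⟩
      simpa [f] using this
    let q : U →ₗ[F] F :=
      { toFun := fun x => Q (x : V)
        map_add' := fun x x' => by
          show Q ((x : V) + (x' : V)) = _
          rw [Q_add, hiso _ x.2 _ x'.2, add_zero]
        map_smul' := fun c x => by
          show Q (c • (x : V)) = c • Q (x : V)
          rw [QuadraticMap.map_smul]
          rcases h2 c with h | h <;> rw [h] <;> simp }
    have h8 := LinearMap.finrank_range_add_finrank_ker q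
    have h9 : Module.finrank F (LinearMap.range q) ≤ 1 := by
      have := Submodule.finrank_le (LinearMap.range q)
      rwa [Module.finrank_self] at this
    let U0 : Submodule F V := (LinearMap.ker q).map U.subtype
    have h10 : Module.finrank F U0 = Module.finrank F (LinearMap.ker q) := Submodule.finrank_map_subtype_eq _ _
    have hU0 : ∀ x ∈ U0, Q x = 0 ∧ y x = x ∧ polar Q v x = 0 := by
      rintro _ ⟨x, hx, rfl⟩
      have m := mem_UU.1 x.2
      exact ⟨hx, m.1, m.2⟩
    obtain ⟨r1, hr1, n1⟩ := exists_in h2 U0 (Submodule.span F {v}) (by omega)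
    have hsp := finrank_span_pair_le (F := F) v r1
    obtain ⟨r2, hr2, n2⟩ := exists_in h2 U0 (Submodule.span F {v, r1}) (by omega)
    exact ⟨r1, r2, hU0 _ hr1, hU0 _ hr2, n1, n2⟩

/-- An isometry commuting with a root element preserves the line. -/
theorem line_of_comm (hQ : Nondeg Q) {y : V ≃ₗ[F] V} (hy : y ∈ O Q) {u w : V} (h : Ln Q u w)
    (hc : y * T Q u w = T Q u w * y) : y u = u ∨ y u = w ∨ y u = u + w := by
  have h3 := T_conj hy u w
  rw [hc, mul_inv_cancel_right] at h3
  have h4 := D_T hQ (h.map hy)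
  rw [← h3, D_T hQ h] at h4
  have h5 : y u ∈ L F u w := by rw [h4]; exact left_mem_L _ _
  exact (h2.mem_span_pair.1 h5).resolve_left (h.map hy).ne

theorem comm_of_fix2 {g : V ≃ₗ[F] V} (hg : g ∈ O Q) {u w : V} (hu : g u = u) (hw : g w = w) :
    g * T Q u w = T Q u w * g := by
  have := T_conj hg u w
  rw [hu, hw, mul_inv_eq_iff_eq_mul] at this
  exact this

variable {a b : V ≃ₗ[F] V}

omit h2 in
theorem Cst.yO (h : Cst Q a b) {y : V ≃ₗ[F] V} (hy : y = a ∨ y = b ∨ y = a * b) : y ∈ O Q := by
  rcases hy with rfl | rfl | rfl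
  · exact h.aO
  · exact h.bO
  · exact (O Q).mul_mem h.aO h.bO

omit h2 in
theorem Cst.yy (h : Cst Q a b) {y : V ≃ₗ[F] V} (hy : y = a ∨ y = b ∨ y = a * b) (x : V) : y (y x) = x := by
  have h3 : y * y = 1 := by
    rcases hy with rfl | rfl | rfl
    · exact h.aa
    · exact h.bb
    · calc a * b * (a * b) = a * (b * a) * b := by group
        _ = a * (a * b) * b := by rw [h.ab]
        _ = (a * a) * (b * b) := by group
        _ = 1 := by rw [h.aa, h.bb, one_mul]
  exact congrArg (fun f : V ≃ₗ[F] V => f x) h3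

/-- Singular fixed vectors agree. -/
theorem Cst.claim1 (h : Cst Q a b) (hQ : Nondeg Q) [FiniteDimensional F V] (hd : 8 ≤ Module.finrank F V)
    {y y' : V ≃ₗ[F] V} (hy : y = a ∨ y = b ∨ y = a * b) (hy' : y' = a ∨ y' = b ∨ y' = a * b) {v : V}
    (hv : Q v = 0) (hyv : y v = v) : y' v = v := by
  by_cases hv0 : v = 0
  · rw [hv0, map_zero]
  obtain ⟨r1, r2, ⟨q1, f1, p1⟩, ⟨q2, f2, p2⟩, n1, n2⟩ := exists_lines h2 hQ hd (h.yO hy) (h.yy hy) hv hyv
  rw [h2.mem_span] at n1
  rw [h2.mem_span_pair] at n2
  push Not at n1 n2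
  obtain ⟨a1, a2⟩ := n1
  obtain ⟨b1, b2, b3, b4⟩ := n2
  have l1 : Ln Q v r1 := h2.ln hv q1 p1 hv0 a1 a2
  have l2 : Ln Q v r2 := h2.ln hv q2 p2 hv0 b1 b2
  have i1 := line_of_comm h2 hQ (h.yO hy') l1 (h.cst y y' hy hy' v r1 l1 (comm_of_fix2 h2 (h.yO hy) hyv f1))
  have i2 := line_of_comm h2 hQ (h.yO hy') l2 (h.cst y y' hy hy' v r2 l2 (comm_of_fix2 h2 (h.yO hy) hyv f2))
  rcases i1 with i1 | i1 | i1
  · exact i1
  · rcases i2 with i2 | i2 | i2
    · exact i2
    · exact absurd (i2.symm.trans i1) b3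
    · exfalso
      apply b4
      have : v + r2 = r1 := i2.symm.trans i1
      rw [← this, ← add_assoc, h2.add_self, zero_add]
  · rcases i2 with i2 | i2 | i2
    · exact i2
    · exact absurd (i2.symm.trans i1) b4
    · exact absurd (add_left_cancel (i2.symm.trans i1)) b3

/-- Singular vectors `v ⊥ y v` are fixed. -/
theorem Cst.claim2 (h : Cst Q a b) (hQ : Nondeg Q) [FiniteDimensional F V] (hd : 8 ≤ Module.finrank F V)
    {y : V ≃ₗ[F] V} (hy : y = a ∨ y = b ∨ y = a * b) {v : V} (hv : Q v = 0) (hp : polar Q v (y v) = 0) :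
    y v = v := by
  by_contra hne
  have hv0 : v ≠ 0 := by
    rintro rfl
    exact hne (map_zero y)
  have hyO := h.yO hy
  have hqy : Q (y v) = 0 := by rw [mem_O.1 hyO, hv]
  have hy0 : y v ≠ 0 := fun e => hv0 ((LinearEquiv.map_eq_zero_iff y).1 e)
  have l : Ln Q v (y v) := h2.ln hv hqy hp hv0 hy0 hne
  have hyc : y * T Q v (y v) = T Q v (y v) * y := by
    have h3 := T_conj hyO v (y v)
    rw [h.yy hy, h2.T_swap hqy hv l.perp', mul_inv_eq_iff_eq_mul] at h3
    exact h3
  obtain ⟨y', hy', hyy', hcomm⟩ : ∃ y', (y' = a ∨ y' = b ∨ y' = a * b) ∧ (y * y' = a ∨ y * y' = b ∨ y * y' = a * b) ∧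
      y * y' = y' * y := by
    rcases hy with rfl | rfl | rfl
    · exact ⟨b, Or.inr (Or.inl rfl), Or.inr (Or.inr rfl), h.ab⟩
    · exact ⟨a, Or.inl rfl, Or.inr (Or.inr h.ab.symm), h.ab.symm⟩
    · refine ⟨a, Or.inl rfl, Or.inr (Or.inl ?_), ?_⟩
      · calc a * b * a = a * (b * a) := by group
          _ = a * (a * b) := by rw [h.ab]
          _ = (a * a) * b := by group
          _ = b := by rw [h.aa, one_mul]
      · rw [mul_assoc, ← h.ab]
  rcases line_of_comm h2 hQ (h.yO hy') l (h.cst y y' hy hy' v (y v) l hyc) with h3 | h3 | h3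
  · exact hne (Cst.claim1 h2 h hQ hd hy' hy hv h3)
  · have h4 : (y * y') v = v := by
      show y (y' v) = v
      rw [h3, h.yy hy]
    exact hne (Cst.claim1 h2 h hQ hd hyy' hy hv h4)
  · have h4 : y (y' v) = y' v := by
      rw [h3, map_add, h.yy hy, add_comm]
    have h5 : y (y' v) = y' (y v) := congrArg (fun f : V ≃ₗ[F] V => f v) hcomm
    rw [h5] at h4
    exact hne (y'.injective h4)

/-- `y` is trivial on a hyperplane. -/
theorem Cst.claim3 (h : Cst Q a b) (hQ : Nondeg Q) [FiniteDimensional F V] (hd : 8 ≤ Module.finrank F V)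
    {y : V ≃ₗ[F] V} (hy : y = a ∨ y = b ∨ y = a * b) :
    ∃ z : V, ∀ x, polar Q z x = 0 → y x = x := by
  have := h2.finite
  have hyO := h.yO hy
  -- the linear function `b(x, y x)`
  let lam : V →ₗ[F] F :=
    { toFun := fun x => polar Q x (y x)
      map_add' := fun x x' => by
        rw [map_add, polar_add_left, polar_add_right, polar_add_right]
        have h3 := polar_map hyO x (y x')
        rw [h.yy hy] at h3
        rw [polar_comm Q x' (y x), h3]
        have h4 := h2.addF (polar Q x (y x'))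
        linear_combination h4
      map_smul' := fun c x => by
        rw [map_smul, polar_smul_left, polar_smul_right]
        rcases h2 c with e | e <;> rw [e] <;> simp }
  have hinj : Function.Injective (polarBilin Q) := by
    rw [← LinearMap.ker_eq_bot, LinearMap.ker_eq_bot']
    intro v hv
    apply hQ
    intro y
    have := LinearMap.congr_fun hv y
    simpa using this
  have hsurj : Function.Surjective (polarBilin Q) := by
    apply (LinearMap.injective_iff_surjective_of_finrank_eq_finrank _).1 hinj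
    exact (Subspace.dual_finrank_eq).symm
  obtain ⟨z, hz⟩ := hsurj lam
  have hz' : ∀ x, polar Q z x = polar Q x (y x) := fun x => LinearMap.congr_fun hz x
  refine ⟨z, ?_⟩
  have sing : ∀ x, polar Q z x = 0 → Q x = 0 → y x = x := fun x hx hq =>
    Cst.claim2 h2 h hQ hd hy hq (by rw [← hz', hx])
  have gen : ∀ x, polar Q z x = 0 → x ≠ z → y x = x := by
    intro x hx hxz
    rcases h2 (Q x) with hq | hq
    · exact sing x hx hq
    have hx0 : x ≠ 0 := by
      rintro rfl
      rw [QuadraticMap.map_zero] at hq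
      exact zero_ne_one hq
    obtain ⟨x0, h3, h4⟩ := exists_sep hQ (x := x) (z := z) (fun c hc => by
      rcases h2.smul_cases ⟨c, hc⟩ with e | e
      · exact hx0 e
      · exact hxz e)
    obtain ⟨s, hs1, hs2⟩ : ∃ s, Q s = 0 ∧ polar Q z s = 0 ∧ polar Q x s = 1 := by
      rcases h2 (Q x0) with hq0 | hq0
      · exact ⟨x0, hq0, h3, h4⟩
      obtain ⟨s, hs, hsn⟩ := exists_avoid (Q := Q) ![z, x, x0] (Submodule.span F (Set.range ![z, x, x0])) (by
        have := finrank_span_le (F := F) ![z, x, x0]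
        omega)
      obtain ⟨s', hs1, hs2⟩ := exists_sep_sub hQ hsn
      have z1 : polar Q z s = 0 := hs 0
      have x1 : polar Q x s = 0 := hs 1
      have w1 : polar Q x0 s = 0 := hs 2
      have z2 : polar Q z s' = 0 := hs2 z (Submodule.subset_span ⟨0, rfl⟩)
      have x2 : polar Q x s' = 0 := hs2 x (Submodule.subset_span ⟨1, rfl⟩)
      have w2 : polar Q x0 s' = 0 := hs2 x0 (Submodule.subset_span ⟨2, rfl⟩)
      obtain ⟨k, k1, k2, k3, k4⟩ : ∃ k, Q k = 1 ∧ polar Q z k = 0 ∧ polar Q x k = 0 ∧ polar Q x0 k = 0 := by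
        rcases exists_nonsing hs1 with e | e | e
        · exact ⟨s, h2.eq_one e, z1, x1, w1⟩
        · exact ⟨s', h2.eq_one e, z2, x2, w2⟩
        · refine ⟨s + s', h2.eq_one e, ?_, ?_, ?_⟩
          · rw [polar_add_right, z1, z2, add_zero]
          · rw [polar_add_right, x1, x2, add_zero]
          · rw [polar_add_right, w1, w2, add_zero]
      refine ⟨x0 + k, ?_, ?_, ?_⟩
      · rw [Q_add, hq0, k1, k4, add_zero, h2.two]
      · rw [polar_add_right, h3, k2, add_zero]
      · rw [polar_add_right, h4, k3, add_zero]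
    have h5 := sing s hs2.1 hs1
    have h6 := sing (x + s) (by rw [polar_add_right, hx, hs2.1, add_zero]) (by
      rw [Q_add, hq, hs1, hs2.2, add_zero, h2.two])
    rw [map_add, h5] at h6
    exact add_right_cancel h6
  intro x hx
  by_cases hxz : x = z
  · obtain ⟨x1, hx1, hn⟩ := exists_avoid (Q := Q) ![z] (Submodule.span F {z}) (by
      have := finrank_span_singleton_le (F := F) z
      omega)
    have hzx1 : polar Q z x1 = 0 := hx1 0
    rw [h2.mem_span] at hn
    push Not at hn
    have h3 := gen x1 hzx1 hn.2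
    have h4 := gen (z + x1) (by rw [polar_add_right, h2.polar_self, hzx1, add_zero]) (by
      intro e
      exact hn.1 (by simpa using e))
    rw [map_add, h3] at h4
    rw [hxz]
    exact add_right_cancel h4
  · exact gen x hx hxz

/-- `y` is a transvection. -/
theorem Cst.claim4 (h : Cst Q a b) (hQ : Nondeg Q) [FiniteDimensional F V] (hd : 8 ≤ Module.finrank F V)
    {y : V ≃ₗ[F] V} (hy : y = a ∨ y = b ∨ y = a * b) (hy1 : y ≠ 1) :
    ∃ z : V, z ≠ 0 ∧ ∀ x, y x = x + polar Q z x • z := by
  obtain ⟨z, hz⟩ := Cst.claim3 h2 h hQ hd hy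
  have hyO := h.yO hy
  have h3 : ∀ x, y x = x ∨ y x = x + z := by
    intro x
    have h4 : y x + x ∈ Submodule.span F {z} := by
      by_contra hn
      obtain ⟨t, ht1, ht2⟩ := exists_sep_sub hQ hn
      have hzt : polar Q z t = 0 := ht2 z (Submodule.mem_span_singleton_self z)
      have h5 := polar_map hyO x t
      rw [hz t hzt] at h5
      rw [polar_add_left, h5, h2.addF] at ht1
      exact zero_ne_one ht1
    rcases h2.mem_span.1 h4 with h5 | h5
    · left; exact h2.eq_of_add h5
    · right
      rw [← h5, add_comm (y x) x, ← add_assoc, h2.add_self, zero_add]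
  obtain ⟨x0, hx0⟩ : ∃ x, y x ≠ x := by
    by_contra hn
    push Not at hn
    exact hy1 (LinearEquiv.ext hn)
  have h4 := (h3 x0).resolve_left hx0
  have h5 : polar Q z x0 = 1 := h2.eq_one fun e => hx0 (hz x0 e)
  have hz0 : z ≠ 0 := by
    rintro rfl
    rw [polar_zero_left] at h5
    exact zero_ne_one h5
  refine ⟨z, hz0, fun x => ?_⟩
  rcases h2 (polar Q z x) with h6 | h6
  · rw [h6, zero_smul, add_zero]
    exact hz x h6
  · have h7 := hz (x + x0) (by rw [polar_add_right, h6, h5, h2.two])
    rw [map_add, h4] at h7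
    rw [h6, one_smul]
    have h8 : y x + (x0 + z) + z + x0 = x + x0 + z + x0 := by rw [h7]
    have e1 : y x + (x0 + z) + z + x0 = y x + (x0 + x0) + (z + z) := by abel
    have e2 : x + x0 + z + x0 = x + z + (x0 + x0) := by abel
    rw [e1, e2, h2.add_self, h2.add_self, add_zero, add_zero, add_zero] at h8
    exact h8

/-- **No such four-group.** -/
theorem Cst.false (h : Cst Q a b) (hQ : Nondeg Q) (hd : 8 ≤ Module.finrank F V) : False := by
  have hfd : FiniteDimensional F V := Module.finite_of_finrank_pos (by omega)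
  have hab1 : a * b ≠ 1 := by
    intro e
    apply h.ne
    calc a = a * (b * b) := by rw [h.bb, mul_one]
      _ = (a * b) * b := by group
      _ = b := by rw [e, one_mul]
  obtain ⟨za, hza0, hza⟩ := Cst.claim4 h2 h hQ hd (Or.inl rfl) h.a1
  obtain ⟨zb, hzb0, hzb⟩ := Cst.claim4 h2 h hQ hd (Or.inr (Or.inl rfl)) h.b1
  obtain ⟨zc, hzc0, hzc⟩ := Cst.claim4 h2 h hQ hd (Or.inr (Or.inr rfl)) hab1
  by_cases hzz : za = zb
  · apply h.ne
    ext x
    rw [hza, hzb, hzz]
  · have hn1 : ∀ c : F, za ≠ c • zb := fun c hc => by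
      rcases h2.smul_cases ⟨c, hc⟩ with e | e
      · exact hza0 e
      · exact hzz e
    have hn2 : ∀ c : F, zb ≠ c • za := fun c hc => by
      rcases h2.smul_cases ⟨c, hc⟩ with e | e
      · exact hzb0 e
      · exact hzz e.symm
    obtain ⟨x, hx1, hx2⟩ := exists_sep hQ hn1
    obtain ⟨x', hx1', hx2'⟩ := exists_sep hQ hn2
    -- `b x = x`, `a x = x + za`
    have e1 : (a * b) x = x + za := by
      show a (b x) = _
      rw [hzb, hx1, zero_smul, add_zero, hza, hx2, one_smul]
    have e2 : (a * b) x' = x' + zb := by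
      rw [h.ab]
      show b (a x') = _
      rw [hza, hx1', zero_smul, add_zero, hzb, hx2', one_smul]
    rw [hzc] at e1 e2
    have f1 : za = zc := by
      have h3 := add_left_cancel e1
      rcases h2 (polar Q zc x) with h4 | h4
      · rw [h4, zero_smul] at h3
        exact absurd h3.symm hza0
      · rw [h4, one_smul] at h3
        exact h3.symm
    have f2 : zb = zc := by
      have h3 := add_left_cancel e2
      rcases h2 (polar Q zc x') with h4 | h4
      · rw [h4, zero_smul] at h3
        exact absurd h3.symm hzb0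
      · rw [h4, one_smul] at h3
        exact h3.symm
    exact hzz (f1.trans f2.symm)

end

end Cfsg.Agent.OddHalf.D4.O2
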