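import Mathlib
import Cfsg.Agent.OddHalf.D4.O2.Fix
import Cfsg.Agent.OddHalf.D4.O2.CTwo

/-!
# ODD, D4, rows `Ω^±_2n(2)`: `O(C(y)) = 1` for involutions `y` of `O(V)`
-/

set_option autoImplicit false
set_option linter.unusedSectionVars false

namespace Cfsg.Agent.OddHalf.D4.O2

open QuadraticMap Cfsg.Agent.LieClassical.OrthCore Cfsg.Agent.LieClassical.OrthTrans
  Cfsg.Agent.ClassicalGeometry.OrthAutBasic Cfsg.Agent.ClassicalGeometry.OrthAutRoot
  Cfsg.Agent.ClassicalGeometry.OrthAutSylow

variable {F V : Type*} [Field F] [AddCommGroup V] [Module F V] {Q : QuadraticForm F V}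

theorem one_of_odd {G : Type*} [Group G] {X : Subgroup G} (hodd : Odd (Nat.card ↥X)) {x : G} (hx : x ∈ X) {k : ℕ}
    (h : x ^ 2 ^ k = 1) : x = 1 := by
  have h1 : orderOf x ∣ Nat.card ↥X := by
    have := orderOf_dvd_natCard (⟨x, hx⟩ : ↥X)
    rwa [Subgroup.orderOf_mk] at this
  have h2 : Odd (orderOf x) := Odd.of_dvd_nat hodd h1
  have h3 : orderOf x ∣ 2 ^ k := orderOf_dvd_of_pow_eq_one h
  rcases (Nat.dvd_prime_pow Nat.prime_two).1 h3 with ⟨m, _, hm⟩
  rw [← orderOf_eq_one_iff, hm]
  rcases Nat.eq_zero_or_pos m with h7 | h7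
  · rw [h7, pow_zero]
  · exfalso
    rw [hm] at h2
    exact (Nat.not_odd_iff_even.2 ((even_two).pow_of_ne_zero (by omega))) h2

theorem one_of_sq {G : Type*} [Group G] {X : Subgroup G} (hodd : Odd (Nat.card ↥X)) {x : G} (hx : x ∈ X)
    (h : x * x = 1) : x = 1 := one_of_odd hodd hx (k := 1) (by rw [pow_one, pow_two, h])

section

variable (h2 : Two F)

include h2

/-- An element of odd order with `g w ∈ {w, w + u}`, `g u = u` fixes `w`. -/
theorem fix_of_odd_order {X : Subgroup (V ≃ₗ[F] V)} (hodd : Odd (Nat.card ↥X)) {g : V ≃ₗ[F] V} (hg : g ∈ X)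
    {u w : V} (hu : g u = u) (hw : g w = w ∨ g w = w + u) : g w = w := by
  rcases hw with h | h
  · exact h
  -- `g²` fixes `w`, `g ∈ ⟨g²⟩`
  have h1 : orderOf g ∣ Nat.card ↥X := by
    have := orderOf_dvd_natCard (⟨g, hg⟩ : ↥X)
    rwa [Subgroup.orderOf_mk] at this
  obtain ⟨k, hk⟩ : Odd (orderOf g) := Odd.of_dvd_nat hodd h1
  have hsq : (g * g) w = w := by
    show g (g w) = w
    rw [h, map_add, h, hu, add_assoc, h2.add_self, add_zero]
  have hpow : ∀ m : ℕ, ((g * g) ^ m) w = w := by
    intro m
    induction m with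
    | zero => rfl
    | succ m ih =>
      rw [pow_succ]
      show ((g * g) ^ m) ((g * g) w) = w
      rw [hsq, ih]
  have h3 : g = (g * g) ^ (k + 1) := by
    rw [← pow_two, ← pow_mul]
    have h2 : 2 * (k + 1) = orderOf g + 1 := by omega
    rw [h2, pow_succ, pow_orderOf_eq_one, one_mul]
  rw [h3]
  exact hpow _

/-- If `g` of odd order is trivial on `S` and `(g - 1) V ≤ S` then `g = 1`. -/
theorem one_of_triv {X : Subgroup (V ≃ₗ[F] V)} (hodd : Odd (Nat.card ↥X)) {g : V ≃ₗ[F] V} (hg : g ∈ X)
    (h : ∀ x, g (g x + x) = g x + x) : g = 1 := by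
  apply one_of_sq hodd hg
  ext x
  show g (g x) = x
  have h3 := h x
  rw [map_add, add_comm (g x) x] at h3
  exact add_right_cancel h3

theorem span_perp (hQ : Nondeg Q) [FiniteDimensional F V] {S : Submodule F V} {z : V}
    (h : ∀ x, (∀ s ∈ S, polar Q s x = 0) → polar Q z x = 0) : z ∈ S := by
  by_contra hn
  obtain ⟨t, ht1, ht2⟩ := exists_sep_sub hQ hn
  have := h t ht2
  rw [ht1] at this
  exact one_ne_zero this

/-- **`O(C(y)) = 1`.** -/
theorem core_trivial (hQ : Nondeg Q) (hd : 8 ≤ Module.finrank F V) {y : V ≃ₗ[F] V} (hyO : y ∈ O Q)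
    (hyy : y * y = 1) (hy1 : y ≠ 1) {X : Subgroup (V ≃ₗ[F] V)} [Finite ↥X] (hXE : X ≤ E Q)
    (hXy : ∀ x ∈ X, x * y = y * x)
    (hXn : ∀ g ∈ E Q, g * y = y * g → ∀ x ∈ X, g * x * g⁻¹ ∈ X) (hodd : Odd (Nat.card ↥X)) : X = ⊥ := by
  have hF := h2.finite
  have hfd : FiniteDimensional F V := Module.finite_of_finrank_pos (by omega)
  have hyx : ∀ x, y (y x) = x := fun x => congrArg (fun f : V ≃ₗ[F] V => f x) hyy
  have hgy : ∀ g ∈ X, ∀ x, g (y x) = y (g x) := fun g hg x => congrArg (fun f : V ≃ₗ[F] V => f x) (hXy g hg)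
  have hgO : ∀ g ∈ X, g ∈ O Q := fun g hg => E_le_O (hXE hg)
  have hTc : ∀ u w, y u = u → y w = w → T Q u w * y = y * T Q u w := fun u w hu hw => (comm_of_fix hyO hu hw).symm
  -- vectors `y x + x`
  have dfix : ∀ x, y (y x + x) = y x + x := fun x => by rw [map_add, hyx, add_comm]
  have dperp : ∀ x v, y v = v → polar Q (y x + x) v = 0 := by
    intro x v hv
    have h3 := polar_map hyO x v
    rw [hv] at h3
    rw [polar_add_left, h3]
    exact h2.addF _
  have hmemD : ∀ z, (∀ v, y v = v → polar Q z v = 0) → ∃ x, y x + x = z := by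
    intro z hz
    have h3 : z ∈ LinearMap.range (y.toLinearMap - LinearMap.id) := by
      apply span_perp h2 hQ
      intro x hx
      apply hz
      apply fix_of_perp h2 hQ hyO hyx
      intro t
      apply hx
      exact ⟨t, by rw [LinearMap.sub_apply, LinearMap.id_apply, h2.sub_eq]; rfl⟩
    obtain ⟨x, hx⟩ := h3
    refine ⟨x, ?_⟩
    rw [← hx, LinearMap.sub_apply, LinearMap.id_apply, h2.sub_eq]
    rfl
  rw [eq_bot_iff]
  intro g hg
  rw [Subgroup.mem_bot]
  by_cases hA : ∃ x, y x + x ≠ 0 ∧ Q (y x + x) = 0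
  · -- a singular vector in `[V, y]`
    obtain ⟨x0, hu0, hqu⟩ := hA
    set u := y x0 + x0 with hu
    have hyu : y u = u := dfix x0
    have hgu0 : g u ≠ 0 := fun e => hu0 ((LinearEquiv.map_eq_zero_iff g).1 e)
    have hqgu : Q (g u) = 0 := by rw [mem_O.1 (hgO g hg), hqu]
    have hgud : g u = y (g x0) + g x0 := by rw [hu, map_add, hgy g hg]
    have hygu : y (g u) = g u := by rw [hgud]; exact dfix _
    have guv : ∀ v, y v = v → polar Q (g u) v = 0 := by
      intro v hv
      rw [hgud]; exact dperp _ v hv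
    have key : ∀ w, y w = w → T Q (g u) (g w) = T Q u w := by
      intro w hw
      have hygw : y (g w) = g w := by rw [← hgy g hg, hw]
      have huw : polar Q u w = 0 := dperp x0 w hw
      have h3 := X.mul_mem hg (hXn (T Q u w) (T_mem_E u w) (hTc u w hyu hw) _ (X.inv_mem hg))
      have h4 : g * (T Q u w * g⁻¹ * (T Q u w)⁻¹) = T Q (g u) (g w) * T Q u w := by
        rw [← T_conj (hgO g hg)]
        calc g * (T Q u w * g⁻¹ * (T Q u w)⁻¹) = g * T Q u w * g⁻¹ * (T Q u w)⁻¹ := by group
          _ = g * T Q u w * g⁻¹ * T Q u w := by rw [h2.T_inv]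
      rw [h4] at h3
      -- `h⁴ = 1`
      set u' := g u with hu'
      set w' := g w with hw'
      have b1 : polar Q u u' = 0 := by rw [polar_comm]; exact guv u hyu
      have b2 : polar Q w u' = 0 := by rw [polar_comm]; exact guv w hw
      have b3 : polar Q u w' = 0 := dperp x0 w' hygw
      have b4 : polar Q u' w' = 0 := guv w' hygw
      have c1 : T Q u w u' = u' := T_fix b1 b2
      have c2 : T Q u w w' = w' + polar Q w w' • u := h2.T_perp hqu huw b3
      have h5 := T_conj (T_mem_O (Q := Q) u w) u' w'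
      rw [c1, c2, h2.T_inv] at h5
      have b5 : polar Q u' (w' + polar Q w w' • u) = 0 := by
        rw [polar_add_right, b4, polar_smul_right, polar_comm Q u' u, b1]; simp
      have h6 : (T Q u' w' * T Q u w) * (T Q u' w' * T Q u w) = T Q u' (polar Q w w' • u) := by
        calc (T Q u' w' * T Q u w) * (T Q u' w' * T Q u w) = T Q u' w' * (T Q u w * T Q u' w' * T Q u w) := by group
          _ = T Q u' w' * T Q u' (w' + polar Q w w' • u) := by rw [h5]
          _ = T Q u' (w' + (w' + polar Q w w' • u)) := T_mul hqgu b4 b5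
          _ = _ := by rw [← add_assoc, h2.add_self, zero_add]
      have h7 : (T Q u' w' * T Q u w) ^ 2 ^ 2 = 1 := by
        have e : (T Q u' w' * T Q u w) ^ 2 ^ 2 = ((T Q u' w' * T Q u w) * (T Q u' w' * T Q u w)) *
            ((T Q u' w' * T Q u w) * (T Q u' w' * T Q u w)) := by
          rw [show (2 : ℕ) ^ 2 = 2 * 2 from rfl, pow_mul, pow_two, pow_two]
        rw [e, h6, h2.T_sq]
      have h8 := one_of_odd hodd h3 h7
      rw [← h2.T_inv (Q := Q) (u := u) (w := w)]
      exact eq_inv_of_mul_eq_one_left h8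
    -- `g u = u`
    have gu : g u = u := by
      by_contra hne
      have hn : ∀ c : F, g u ≠ c • u := fun c hc => by
        rcases h2.smul_cases ⟨c, hc⟩ with e | e
        · exact hgu0 e
        · exact hne e
      obtain ⟨x, hx1, hx2⟩ := exists_sep hQ hn
      have hall : ∀ w, y w = w → w ∈ Submodule.span F {u, g u} := by
        intro w hw
        have hw1 : y (g⁻¹ w) = g⁻¹ w := by
          apply g.injective
          rw [hgy g hg]
          have e : g (g⁻¹ w) = w := LinearEquiv.apply_symm_apply g w
          rw [e, hw]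
        have e : g (g⁻¹ w) = w := LinearEquiv.apply_symm_apply g w
        have h3 := key (g⁻¹ w) hw1
        rw [e] at h3
        have h4 : T Q (g u) w x = T Q u (g⁻¹ w) x := by rw [h3]
        rw [h2.T_apply hqgu (guv w hw), h2.T_perp hqu (dperp x0 _ hw1) hx1, hx2, one_smul, mul_one, add_assoc,
          add_assoc] at h4
        have h5 := add_left_cancel h4
        have h6 : w = polar Q (g⁻¹ w) x • u + (polar Q w x • g u + Q w • g u) := by
          rw [← h5, add_assoc, h2.add_self, add_zero]
        rw [h6, Submodule.mem_span_pair]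
        exact ⟨polar Q (g⁻¹ w) x, polar Q w x + Q w, by module⟩
      -- dimension
      obtain ⟨s, hs, hsn⟩ : ∃ s, (y s = s) ∧ s ∉ Submodule.span F {u, g u} := by
        have hle : ∀ s, s ∈ LinearMap.range (y.toLinearMap - LinearMap.id) → s ∈ Submodule.span F {u, g u} := by
          rintro _ ⟨z, rfl⟩
          apply hall
          rw [LinearMap.sub_apply, LinearMap.id_apply, h2.sub_eq]
          exact dfix z
        have h5 := LinearMap.finrank_range_add_finrank_ker (y.toLinearMap - LinearMap.id)
        have h6 := Submodule.finrank_mono (show LinearMap.range (y.toLinearMap - LinearMap.id) ≤ _ from hle)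
        have h7 := finrank_span_pair_le (F := F) u (g u)
        obtain ⟨s, hs, hsn⟩ := exists_in h2 (LinearMap.ker (y.toLinearMap - LinearMap.id))
          (Submodule.span F {u, g u}) (by omega)
        refine ⟨s, ?_, hsn⟩
        rw [LinearMap.mem_ker, LinearMap.sub_apply, LinearMap.id_apply, sub_eq_zero] at hs
        exact hs
      exact hsn (hall s hs)
    have gV : ∀ w, y w = w → g w = w := by
      intro w hw
      apply fix_of_odd_order h2 hodd hg gu
      have h3 := key w hw
      rw [gu] at h3
      have hygw : y (g w) = g w := by rw [← hgy g hg, hw]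
      obtain ⟨c, hc⟩ := (T_eq_T_iff hQ hqu hu0 (dperp x0 w hw) (dperp x0 _ hygw)).1 h3.symm
      rcases h2 c with e | e
      · left; rw [hc, e, zero_smul, add_zero]
      · right; rw [hc, e, one_smul]
    apply one_of_triv h2 hodd hg
    intro x
    apply gV
    obtain ⟨t, ht⟩ := hmemD (g x + x) (by
      intro v hv
      have h3 := polar_map (hgO g hg) x v
      rw [gV v hv] at h3
      rw [polar_add_left, h3]
      exact h2.addF _)
    rw [← ht]
    exact dfix t
  · -- `y` is a transvection
    push Not at hA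
    obtain ⟨x0, hx0⟩ : ∃ x, y x ≠ x := by
      by_contra hn
      push Not at hn
      exact hy1 (LinearEquiv.ext hn)
    set q := y x0 + x0 with hqdef
    have hq0 : q ≠ 0 := fun e => hx0 (h2.eq_of_add e)
    have hqq : Q q = 1 := h2.eq_one (hA x0 hq0)
    have hD : ∀ x, y x + x = 0 ∨ y x + x = q := by
      intro x
      by_contra hcon
      push Not at hcon
      have h3 : y (x + x0) + (x + x0) = (y x + x) + q := by rw [map_add, hqdef]; abel
      have h4 : (y x + x) + q ≠ 0 := fun e => hcon.2 (h2.eq_of_add e)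
      have h5 := hA (x + x0) (by rw [h3]; exact h4)
      apply h5
      rw [h3, Q_add, hqq, h2.eq_one (hA x hcon.1), dperp x q (dfix x0), add_zero, h2.two]
    have hyq : y q = q := dfix x0
    have hfix : ∀ v, polar Q q v = 0 → y v = v := by
      intro v hv
      apply fix_of_perp h2 hQ hyO hyx
      intro z
      rcases hD z with e | e
      · rw [e, polar_zero_left]
      · rw [e, hv]
    have hgq : ∀ g ∈ X, g q = q := by
      intro g hg
      have h3 : g q = y (g x0) + g x0 := by rw [hqdef, map_add, hgy g hg]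
      rcases hD (g x0) with e | e
      · rw [e] at h3
        exact absurd ((LinearEquiv.map_eq_zero_iff g).1 h3) hq0
      · rw [h3, e]
    clear_value q
    -- stabilisers of singular points
    have hstab : ∀ u, Q u = 0 → u ≠ 0 → polar Q q u = 0 → ∀ g ∈ X, g u = u → g = 1 := by
      intro u hqu hu0 hqu' g hg hgu
      have hgw : ∀ w, polar Q u w = 0 → polar Q q w = 0 → g w = w := by
        intro w huw hqw
        apply fix_of_odd_order h2 hodd hg hgu
        have h3 := X.mul_mem hg (hXn (T Q u w) (T_mem_E u w) (hTc u w (hfix u hqu') (hfix w hqw)) _ (X.inv_mem hg))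
        have hugw : polar Q u (g w) = 0 := by
          have := polar_map (hgO g hg) u w
          rw [hgu] at this
          rw [this, huw]
        have h4 : g * (T Q u w * g⁻¹ * (T Q u w)⁻¹) = T Q u (g w + w) := by
          rw [← T_mul hqu hugw huw]
          have h5 := T_conj (hgO g hg) u w
          rw [hgu] at h5
          rw [← h5, h2.T_inv]
          group
        rw [h4] at h3
        have h5 := one_of_sq hodd h3 h2.T_sq
        rw [← T_zero_right (Q := Q) u] at h5
        obtain ⟨c, hc⟩ := (T_eq_T_iff hQ hqu hu0 (polar_zero_right _ _) (by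
          rw [polar_add_right, hugw, huw, add_zero])).1 h5.symm
        rw [zero_add] at hc
        rcases h2 c with e | e
        · left
          rw [e, zero_smul] at hc
          exact h2.eq_of_add hc
        · right
          rw [e, one_smul] at hc
          rw [← hc, add_comm (g w) w, ← add_assoc, h2.add_self, zero_add]
      apply one_of_triv h2 hodd hg
      intro x
      have h3 : g x + x ∈ Submodule.span F {u, q} := by
        apply span_perp h2 hQ
        intro v hv
        have huv : polar Q u v = 0 := hv u (Submodule.subset_span (by simp))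
        have hqv : polar Q q v = 0 := hv q (Submodule.subset_span (by simp))
        have h3 := polar_map (hgO g hg) x v
        rw [hgw v huv hqv] at h3
        rw [polar_add_left, h3]
        exact h2.addF _
      rcases h2.mem_span_pair.1 h3 with e | e | e | e
      · rw [e, map_zero]
      · rw [e, hgu]
      · rw [e, hgq g hg]
      · rw [e, map_add, hgu, hgq g hg]
    -- three commuting involutions inverting `X`
    obtain ⟨u, hqu, hu1, hun⟩ := exists_sing_avoid (Q := Q) ![q] (Submodule.span F {q}) (by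
      have := finrank_span_singleton_le (F := F) q
      omega)
    have hqu1 : polar Q q u = 0 := hu1 0
    have huq : polar Q u q = 0 := by rw [polar_comm, hqu1]
    have hu0 : u ≠ 0 := fun e => hun (by rw [e]; exact Submodule.zero_mem _)
    obtain ⟨e, hqe, he1, hen⟩ := exists_sing_avoid (Q := Q) ![u, q] (Submodule.span F {u, q}) (by
      have := finrank_span_pair_le (F := F) u q
      omega)
    have hue : polar Q u e = 0 := he1 0
    have hqe1 : polar Q q e = 0 := he1 1
    obtain ⟨f0, hf1, hf2⟩ := exists_sep_sub hQ hen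
    have huf0 : polar Q u f0 = 0 := hf2 u (Submodule.subset_span (by simp))
    have hqf0 : polar Q q f0 = 0 := hf2 q (Submodule.subset_span (by simp))
    obtain ⟨c, hf3, hf4⟩ := h2.sing_of hqe hf1
    set f := f0 + c • e with hf
    have huf : polar Q u f = 0 := by rw [hf, polar_add_right, polar_smul_right, huf0, hue]; simp
    have hqf : polar Q q f = 0 := by rw [hf, polar_add_right, polar_smul_right, hqf0, hqe1]; simp
    have P1 : PQ Q u (e + f) := ⟨hqu, hu0, by rw [polar_add_right, hue, huf, add_zero], by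
      rw [Q_add, hqe, hf3, hf4]; simp⟩
    have P2 : PQ Q u (e + q) := ⟨hqu, hu0, by rw [polar_add_right, hue, huq, add_zero], by
      rw [Q_add, hqe, hqq, polar_comm, hqe1]; simp⟩
    have P3 : PQ Q u (e + f + (e + q)) := ⟨hqu, hu0, by rw [polar_add_right, P1.pq, P2.pq, add_zero], by
      rw [Q_add, P1.qq, P2.qq, polar_add_left, polar_add_right, polar_add_right, h2.polar_self, polar_comm Q e q,
        hqe1, polar_comm Q f e, hf4, polar_comm Q f q, hqf, h2.two]
      simp⟩
    have q1 : polar Q q (e + f) = 0 := by rw [polar_add_right, hqe1, hqf, add_zero]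
    have q2 : polar Q q (e + q) = 0 := by rw [polar_add_right, hqe1, h2.polar_self, add_zero]
    have q3 : polar Q q (e + f + (e + q)) = 0 := by rw [polar_add_right, q1, q2, add_zero]
    have inv : ∀ w, PQ Q u w → polar Q q w = 0 → ∀ g ∈ X, T Q u w * g * (T Q u w)⁻¹ = g⁻¹ := by
      intro w hw hqw g hg
      have hTy := hTc u w (hfix u hqu1) (hfix w hqw)
      let φ : ↥X →* ↥X :=
        { toFun := fun x => ⟨T Q u w * x * (T Q u w)⁻¹, hXn _ (T_mem_E _ _) hTy x x.2⟩
          map_one' := Subtype.ext (by simp)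
          map_mul' := fun a b => Subtype.ext (by simp) }
      have h3 : MonoidHom.FixedPointFree φ := by
        intro x hx
        have h4 : T Q u w * (x : V ≃ₗ[F] V) * (T Q u w)⁻¹ = x := congrArg Subtype.val hx
        have h5 : (x : V ≃ₗ[F] V) * T Q u w = T Q u w * x := by
          rw [mul_inv_eq_iff_eq_mul] at h4
          exact h4.symm
        exact Subtype.ext (hstab u hqu hu0 hqu1 x x.2 (PQ.fix_p h2 hQ hw (hgO x x.2) h5))
      have h4 : Function.Involutive φ := by
        intro x
        apply Subtype.ext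
        show T Q u w * (T Q u w * x * (T Q u w)⁻¹) * (T Q u w)⁻¹ = x
        calc T Q u w * (T Q u w * x * (T Q u w)⁻¹) * (T Q u w)⁻¹ =
            (T Q u w * T Q u w) * x * (T Q u w * T Q u w)⁻¹ := by group
          _ = x := by rw [h2.T_sq]; simp
      exact congrArg Subtype.val (congrFun (h3.coe_eq_inv_of_involutive h4) ⟨g, hg⟩)
    have i1 := inv _ P1 q1
    have i2 := inv _ P2 q2
    have i3 := inv _ P3 q3 g hg
    rw [← T_mul hqu P1.pq P2.pq] at i3
    have i4 : T Q u (e + f) * T Q u (e + q) * g * (T Q u (e + f) * T Q u (e + q))⁻¹ = g := by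
      calc T Q u (e + f) * T Q u (e + q) * g * (T Q u (e + f) * T Q u (e + q))⁻¹ =
          T Q u (e + f) * (T Q u (e + q) * g * (T Q u (e + q))⁻¹) * (T Q u (e + f))⁻¹ := by group
        _ = g := by rw [i2 g hg, i1 _ (X.inv_mem hg), inv_inv]
    rw [i4] at i3
    apply one_of_sq hodd hg
    nth_rewrite 1 [i3]
    exact inv_mul_cancel g

end

end Cfsg.Agent.OddHalf.D4.O2
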