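import Mathlib
import Cfsg.Agent.OddHalf.D4.SigmaEnd
import Cfsg.Agent.OddHalf.D4.O2.CTwo

/-!
# ODD, D4, rows `Ω^±_2n(2)`: products of two commuting root elements are not in `N`
-/

set_option autoImplicit false
set_option linter.unusedSectionVars false

namespace Cfsg.Agent.OddHalf.D4.O2

open QuadraticMap Cfsg.Agent.LieClassical.OrthCore Cfsg.Agent.LieClassical.OrthTrans
  Cfsg.Agent.ClassicalGeometry.OrthAutBasic Cfsg.Agent.ClassicalGeometry.OrthAutRoot
  Cfsg.Agent.ClassicalGeometry.OrthAutSylow Cfsg.Agent.OddHalf.D4.SigmaEnd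

variable {F V : Type*} [Field F] [AddCommGroup V] [Module F V] {Q : QuadraticForm F V}

/-- The four-group `⟨a, b⟩` and the traces `D`, `N`. -/
structure OConf (Q : QuadraticForm F V) (D N : Subgroup (V ≃ₗ[F] V)) (a b : V ≃ₗ[F] V) : Prop extends OC Q D N where
  aO : a ∈ O Q
  bO : b ∈ O Q
  aa : a * a = 1
  bb : b * b = 1
  ab : a * b = b * a
  a1 : a ≠ 1
  b1 : b ≠ 1
  ne : a ≠ b
  cen : ∀ y, (y = a ∨ y = b ∨ y = a * b) → ∀ x ∈ E Q, x * y = y * x → x ∈ D
  comm : ∀ y, (y = a ∨ y = b ∨ y = a * b) → ∀ d ∈ D, y * d * y⁻¹ * d⁻¹ ∈ N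
  core : NoOdd N

section

variable (h2 : Two F) {D N : Subgroup (V ≃ₗ[F] V)}

include h2

theorem PQ.refl_sw {p q : V} (h : PQ Q p q) (hq : Q q ≠ 0) (hq' : Q (q + p) ≠ 0) :
    T Q p q * refl Q q hq = refl Q (q + p) hq' := by
  ext x
  show T Q p q (refl Q q hq x) = _
  rw [refl_apply2 h2 h.qq, refl_apply2 h2 (PQ.sw h2 h).qq, PQ.T_apply h2 h]
  simp only [polar_add_right, polar_add_left, polar_smul_right, h.pq, h2.polar_self, smul_eq_mul, mul_zero,
    add_zero]
  module

/-- Elements of `N` centralising `w ∈ N`. -/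
theorem OC.gd (oc : OC Q D N) {w : V ≃ₗ[F] V} (hw : w ∈ N) (hw1 : w ≠ 1) (hw2 : w * w = 1) {n : V ≃ₗ[F] V}
    (hn : n ∈ N) (hc : n * w = w * n) : Gd Q N w n where
  mO := E_le_O (oc.DE (oc.le hn))
  comm := hc
  mem h hh hhw := by
    have h3 := oc.norm h (oc.cenN w hw hw1 hw2 h hh hhw) _ (N.inv_mem hn)
    have h4 : n * h * n⁻¹ * h⁻¹ = n * (h * n⁻¹ * h⁻¹) := by group
    rw [h4]
    exact N.mul_mem hn h3

/-- If `N = {1, w}`, then `a`, `b`, `a b` centralise `w`. -/
theorem OConf.gd {a b : V ≃ₗ[F] V} (oc : OConf Q D N a b) {w : V ≃ₗ[F] V} (hw : w ∈ N) (hw1 : w ≠ 1)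
    (hw2 : w * w = 1) (hN : ∀ n ∈ N, n = 1 ∨ n = w) {y : V ≃ₗ[F] V} (hy : y = a ∨ y = b ∨ y = a * b) :
    Gd Q N w y where
  mO := by
    rcases hy with rfl | rfl | rfl
    · exact oc.aO
    · exact oc.bO
    · exact (O Q).mul_mem oc.aO oc.bO
  comm := by
    have h3 := oc.comm y hy w (oc.le hw)
    rcases hN _ h3 with h4 | h4
    · calc y * w = (y * w * y⁻¹ * w⁻¹) * (w * y) := by group
        _ = w * y := by rw [h4, one_mul]
    · exfalso
      apply hw1
      have h5 : y * w * y⁻¹ = 1 := by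
        calc y * w * y⁻¹ = (y * w * y⁻¹ * w⁻¹) * w := by group
          _ = w * w := by rw [h4]
          _ = 1 := hw2
      calc w = y⁻¹ * (y * w * y⁻¹) * y := by group
        _ = 1 := by rw [h5]; group
  mem h hh hhw := oc.comm y hy h (oc.cenN w hw hw1 hw2 h hh hhw)

/-- **Involutions of type `c₂` are not in `N`.** -/
theorem OConf.c2 [Finite (V ≃ₗ[F] V)] (hQ : Nondeg Q) (hd : 8 ≤ Module.finrank F V) {a b : V ≃ₗ[F] V}
    (oc : OConf Q D N a b) {p q : V} (h : PQ Q p q) : T Q p q ∉ N := by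
  intro hw
  have := h2.finite
  have hfd : FiniteDimensional F V := Module.finite_of_finrank_pos (by omega)
  have hq' : Q q ≠ 0 := by rw [h.qq]; exact one_ne_zero
  have hqp' : Q (q + p) ≠ 0 := by rw [(PQ.sw h2 h).qq]; exact one_ne_zero
  set w := T Q p q with hwdef
  have hw1 : w ≠ 1 := PQ.T_ne_one h2 hQ h
  have hw2 : w * w = 1 := h2.T_sq
  have four : ∀ g, Gd Q N w g → g = 1 ∨ g = w ∨ g = refl Q q hq' ∨ g = w * refl Q q hq' := fun g hg =>
    PQ.four h2 hQ h hg.mO (fun x hx1 hx2 => OC.step3 h2 oc.toOC hQ hd h hw hg hx1 hx2) hq'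
  have tN : refl Q q hq' ∉ N := by
    intro ht
    refine OC.no_refl h2 oc.toOC hQ hd h hw hq' (oc.cenN _ ht ?_ (refl_mul_self hq'))
    intro e
    obtain ⟨y, hy⟩ := hQ.exists_polar_eq (PQ.q0 h2 h) 1
    have h3 : refl Q q hq' y = y := by rw [e]; rfl
    rw [refl_apply2 h2 h.qq, hy, one_smul] at h3
    exact PQ.q0 h2 h (by simpa using h3)
  have hC : ∀ n ∈ N, n * w = w * n → n = 1 ∨ n = w := by
    intro n hn hc
    rcases four n (OC.gd h2 oc.toOC hw hw1 hw2 hn hc) with h3 | h3 | h3 | h3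
    · exact Or.inl h3
    · exact Or.inr h3
    · exact absurd (h3 ▸ hn) tN
    · exfalso
      apply tN
      have h4 := N.mul_mem hw hn
      rw [h3, ← mul_assoc, hw2, one_mul] at h4
      exact h4
  have hN := eq_pair_of_self hw hw2 hw1 hC oc.core
  have key : ∀ y, (y = a ∨ y = b ∨ y = a * b) → y ≠ 1 → y = w := by
    intro y hy hy1
    rcases four y (OConf.gd h2 oc hw hw1 hw2 hN hy) with h3 | h3 | h3 | h3
    · exact absurd h3 hy1
    · exact h3
    · exfalso
      refine OC.no_refl h2 oc.toOC hQ hd h hw hq' fun x hx hxc => oc.cen y hy x hx ?_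
      rw [h3]; exact hxc
    · exfalso
      rw [hwdef, PQ.refl_sw h2 h hq' hqp'] at h3
      have hw' : T Q p (q + p) ∈ N := by rw [h2.T_add_self h.qp h.pq]; exact hw
      refine OC.no_refl h2 oc.toOC hQ hd (PQ.sw h2 h) hw' hqp' fun x hx hxc => oc.cen y hy x hx ?_
      rw [h3]; exact hxc
  exact oc.ne ((key a (Or.inl rfl) oc.a1).trans (key b (Or.inr (Or.inl rfl)) oc.b1).symm)

/-! ### Type `a_k`, `k ≥ 4` -/

/-- `[V, g]` -/
abbrev DD (g : V ≃ₗ[F] V) : Submodule F V := Cfsg.Agent.ClassicalGeometry.OrthAutRoot.D g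

/-- Involutions of type `a_k`, `k ≥ 4`. -/
structure AK (Q : QuadraticForm F V) (w : V ≃ₗ[F] V) : Prop where
  mO : w ∈ O Q
  sq : w * w = 1
  al : ∀ x, polar Q x (w x) = 0
  rk : 4 ≤ Module.finrank F (DD w)

omit h2 in
theorem AK.app {w : V ≃ₗ[F] V} (h : AK Q w) (x : V) : w (w x) = x :=
  congrArg (fun f : V ≃ₗ[F] V => f x) h.sq

theorem mem_D2 {w : V ≃ₗ[F] V} {u : V} : u ∈ DD w ↔ ∃ x, w x + x = u := by
  rw [Cfsg.Agent.ClassicalGeometry.OrthAutRoot.mem_D]
  constructor
  · rintro ⟨x, hx⟩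
    exact ⟨x, by rw [← hx, h2.sub_eq]⟩
  · rintro ⟨x, hx⟩
    exact ⟨x, by rw [← hx, h2.sub_eq]⟩

theorem AK.fix {w : V ≃ₗ[F] V} (h : AK Q w) {u : V} (hu : u ∈ DD w) : w u = u := by
  obtain ⟨x, rfl⟩ := (mem_D2 h2).1 hu
  rw [map_add, h.app, add_comm]

theorem AK.sing {w : V ≃ₗ[F] V} (h : AK Q w) {u : V} (hu : u ∈ DD w) : Q u = 0 := by
  obtain ⟨x, rfl⟩ := (mem_D2 h2).1 hu
  rw [Q_add, mem_O.1 h.mO, polar_comm, h.al, add_zero]
  exact h2.addF _

/-- `[V, w]` is orthogonal to the fixed vectors. -/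
theorem AK.perp {w : V ≃ₗ[F] V} (h : AK Q w) {u v : V} (hu : u ∈ DD w) (hv : w v = v) :
    polar Q u v = 0 := by
  obtain ⟨x, rfl⟩ := (mem_D2 h2).1 hu
  have h3 := polar_map h.mO x v
  rw [hv] at h3
  rw [polar_add_left, h3]
  exact h2.addF _

theorem AK.fix_of {w : V ≃ₗ[F] V} (h : AK Q w) (hQ : Nondeg Q) {v : V}
    (hv : ∀ u ∈ DD w, polar Q u v = 0) : w v = v := by
  apply h2.eq_of_add
  apply hQ
  intro x
  have h3 := hv (w x + x) ((mem_D2 h2).2 ⟨x, rfl⟩)
  rw [polar_add_left] at h3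
  have h4 := polar_map h.mO x (w v)
  rw [h.app] at h4
  rw [polar_comm, polar_add_right, ← h4]
  exact h3

theorem AK.mem_D_of {w : V ≃ₗ[F] V} (h : AK Q w) (hQ : Nondeg Q) [FiniteDimensional F V] {z : V}
    (hz : ∀ v, w v = v → polar Q z v = 0) : z ∈ DD w := by
  by_contra hn
  obtain ⟨y, hy1, hy2⟩ := exists_sep_sub hQ hn
  have := hz y (AK.fix_of h2 h hQ hy2)
  rw [hy1] at this
  exact one_ne_zero this

/-- `τ_x = T (w x + x) x` centralises `w`. -/
theorem AK.tau {w : V ≃ₗ[F] V} (h : AK Q w) (x : V) :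
    Q (w x + x) = 0 ∧ polar Q (w x + x) x = 0 ∧ T Q (w x + x) x * w = w * T Q (w x + x) x := by
  have hu : w x + x ∈ DD w := (mem_D2 h2).2 ⟨x, rfl⟩
  have h3 : Q (w x + x) = 0 := AK.sing h2 h hu
  have h4 : polar Q (w x + x) x = 0 := by
    rw [polar_add_left, h2.polar_self, add_zero, polar_comm, h.al]
  refine ⟨h3, h4, ?_⟩
  have h5 := T_conj h.mO (w x + x) x
  have h6 : T Q (w x + x) (w x) = T Q (w x + x) x := by
    have h7 : w x = x + (w x + x) := by
      rw [add_comm x (w x + x), add_assoc, h2.add_self, add_zero]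
    rw [← h2.T_add_self h3 h4]
    exact congrArg _ h7
  rw [AK.fix h2 h hu, h6, mul_inv_eq_iff_eq_mul] at h5
  exact h5.symm

/-- Elements which are trivial on the fixed vectors of `w`. -/
theorem AK.two_of (oc : OC Q D N) (hQ : Nondeg Q) [FiniteDimensional F V] {w : V ≃ₗ[F] V} (h : AK Q w)
    {g : V ≃ₗ[F] V} (hg : g ∈ O Q) (hfix : ∀ v, w v = v → g v = v)
    (hc : ∀ x, g * T Q (w x + x) x * g⁻¹ * (T Q (w x + x) x)⁻¹ ∈ N) : g = 1 ∨ g = w := by
  have key : ∀ x, g x = x ∨ g x = w x := by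
    intro x
    obtain ⟨t1, t2, _⟩ := AK.tau h2 h x
    have hu : w x + x ∈ DD w := (mem_D2 h2).2 ⟨x, rfl⟩
    have hz : g x + x ∈ DD w := by
      apply AK.mem_D_of h2 h hQ
      intro v hv
      have h3 := polar_map hg x v
      rw [hfix v hv] at h3
      rw [polar_add_left, h3]
      exact h2.addF _
    have gu : g (w x + x) = w x + x := hfix _ (AK.fix h2 h hu)
    have h3 := hc x
    have h4 : polar Q (w x + x) (g x) = 0 := by
      have := polar_map hg (w x + x) x
      rw [gu] at this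
      rw [this, t2]
    rw [T_conj hg, gu, h2.T_inv, T_mul t1 h4 t2] at h3
    by_cases hz0 : g x + x = 0
    · left; exact h2.eq_of_add hz0
    by_cases hu0 : w x + x = 0
    · left
      exact hfix x (h2.eq_of_add hu0)
    by_cases hzu : g x + x = w x + x
    · right; exact add_right_cancel hzu
    exfalso
    refine oc.sig _ _ (h2.ln t1 (AK.sing h2 h hz) ?_ hu0 hz0 hzu) h3
    exact AK.perp h2 h hu (AK.fix h2 h hz)
  by_contra hcon
  push Not at hcon
  obtain ⟨c1, c2⟩ := hcon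
  obtain ⟨x1, hx1⟩ : ∃ x, g x ≠ x := by
    by_contra hn
    push Not at hn
    exact c1 (LinearEquiv.ext hn)
  obtain ⟨x2, hx2⟩ : ∃ x, g x ≠ w x := by
    by_contra hn
    push Not at hn
    exact c2 (LinearEquiv.ext hn)
  have e1 := (key x1).resolve_left hx1
  have e2 := (key x2).resolve_right hx2
  rcases key (x1 + x2) with h3 | h3
  · rw [map_add, e2] at h3
    exact hx1 (add_right_cancel h3)
  · rw [map_add, map_add, e1] at h3
    exact hx2 (add_left_cancel h3)

/-- `g` with `g w = w g`, `[g, C(w)] ≤ N` is `1` or `w`. -/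
theorem AK.two_of_gd (oc : OC Q D N) (hQ : Nondeg Q) [FiniteDimensional F V]
    (hc2 : ∀ p q, PQ Q p q → T Q p q ∉ N) {w : V ≃ₗ[F] V} (h : AK Q w) (hw : w ∈ N) (hw1 : w ≠ 1) {g : V ≃ₗ[F] V}
    (hg : Gd Q N w g) : g = 1 ∨ g = w := by
  have gw : ∀ x, g (w x) = w (g x) := fun x => congrArg (fun f : V ≃ₗ[F] V => f x) hg.comm
  have gD : ∀ u ∈ DD w, g u ∈ DD w := by
    intro u hu
    obtain ⟨x, rfl⟩ := (mem_D2 h2).1 hu
    exact (mem_D2 h2).2 ⟨g x, by rw [map_add, gw]⟩
  have tauD : ∀ x, T Q (w x + x) x ∈ D := fun x =>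
    oc.cenN w hw hw1 h.sq _ (T_mem_E _ _) (AK.tau h2 h x).2.2
  have Tc : ∀ u v, w u = u → w v = v → T Q u v * w = w * T Q u v := fun u v hu hv =>
    (comm_of_fix h.mO hu hv).symm
  -- isotropic pairs
  have iso : ∀ x r', r' ∈ DD w → polar Q x r' = 0 → w x + x ≠ 0 → r' ≠ 0 → r' ≠ w x + x →
      g (w x + x) = w x + x ∨ g (w x + x) = r' ∨ g (w x + x) = (w x + x) + r' := by
    intro x r' hr' hxr' hr0 hr'0 hne
    set r := w x + x with hrdef
    have hr : r ∈ DD w := (mem_D2 h2).2 ⟨x, rfl⟩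
    have hln : Ln Q r r' := h2.ln (AK.sing h2 h hr) (AK.sing h2 h hr') (AK.perp h2 h hr (AK.fix h2 h hr')) hr0 hr'0 hne
    have hln' : Ln Q (g r) (g r') := hln.map hg.mO
    have h3 := hg.mem (T Q r r') (T_mem_E _ _) (Tc r r' (AK.fix h2 h hr) (AK.fix h2 h hr'))
    rw [T_conj hg.mO, h2.T_inv] at h3
    have hfix3 : ∀ v, w v = v → (T Q (g r) (g r') * T Q r r') v = v := by
      intro v hv
      show T Q (g r) (g r') (T Q r r' v) = v
      rw [T_fix (AK.perp h2 h hr hv) (AK.perp h2 h hr' hv), T_fix (AK.perp h2 h (gD r hr) hv)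
        (AK.perp h2 h (gD r' hr') hv)]
    have h4 := AK.two_of h2 oc hQ h (E_le_O (oc.DE (oc.le h3))) hfix3 (by
      intro x'
      have h5 := oc.norm _ (tauD x') _ (N.inv_mem h3)
      have h6 : ∀ n t : V ≃ₗ[F] V, n * t * n⁻¹ * t⁻¹ = n * (t * n⁻¹ * t⁻¹) := fun n t => by group
      rw [h6]
      exact N.mul_mem h3 h5)
    have conv : ∀ v : V, v ∈ L F (g r) (g r') ↔ v = 0 ∨ v = g r ∨ v = g r' ∨ v = g r + g r' := fun v =>
      h2.mem_span_pair
    rcases h4 with h4 | h4
    · have h5 : T Q (g r) (g r') = T Q r r' := by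
        rw [← h2.T_inv (Q := Q) (u := r) (w := r')]
        exact eq_inv_of_mul_eq_one_left h4
      have h6 := D_T hQ hln'
      rw [h5, D_T hQ hln] at h6
      have h7 : g r ∈ L F r r' := by rw [h6]; exact left_mem_L _ _
      rcases h2.mem_span_pair.1 h7 with h8 | h8 | h8 | h8
      · exact absurd h8 hln'.ne
      · exact Or.inl h8
      · exact Or.inr (Or.inl h8)
      · exact Or.inr (Or.inr h8)
    · -- `w = T (g r) (g r') T r r'`
      obtain ⟨x', hx'⟩ := (mem_D2 h2).1 hr'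
      have bx : ∀ y s, w y + y = s → polar Q r y = 0 → polar Q r' y = 0 → s ∈ L F (g r) (g r') := by
        intro y s hs hy1 hy2
        have h5 : w y = T Q (g r) (g r') y := by
          rw [← h4]
          show T Q (g r) (g r') (T Q r r' y) = _
          rw [T_fix hy1 hy2]
        rw [← hs, h5, h2.T_apply hln'.qu hln'.perp, hln'.qw, mem_L]
        refine ⟨polar Q (g r') y, polar Q (g r) y, ?_⟩
        have h6 := h2.add_self y
        have h7 : y + polar Q (g r) y • g r' + polar Q (g r') y • g r + (0 * polar Q (g r) y) • g r + y =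
            (y + y) + (polar Q (g r') y • g r + polar Q (g r) y • g r') := by
          rw [zero_mul, zero_smul]; abel
        rw [h7, h6, zero_add]
      have hrx : polar Q r x = 0 := (AK.tau h2 h x).2.1
      have hr'x : polar Q r' x = 0 := by rw [polar_comm, hxr']
      have hr'x' : polar Q r' x' = 0 := by rw [← hx']; exact (AK.tau h2 h x').2.1
      have hrx' : polar Q r x' = 0 := by
        have h5 := polar_map h.mO x x'
        rw [← hx', polar_add_right] at hxr'
        have h6 := polar_map h.mO x (w x')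
        rw [h.app] at h6
        rw [hrdef, polar_add_left, h6]
        exact hxr'
      have m1 := (conv _).1 (bx x r hrdef.symm hrx hr'x)
      have m2 := (conv _).1 (bx x' r' hx' hrx' hr'x')
      have g0 : g r ≠ 0 := hln'.ne
      have g0' : g r' ≠ 0 := hln'.ne'
      rcases m1 with m1 | m1 | m1 | m1
      · exact absurd m1 hr0
      · exact Or.inl m1.symm
      · rcases m2 with m2 | m2 | m2 | m2
        · exact absurd m2 hr'0
        · exact Or.inr (Or.inl m2.symm)
        · exact absurd (m2.trans m1.symm) hne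
        · right; right
          have h5 : r + r' = g r' + (g r + g r') := congrArg₂ (· + ·) m1 m2
          rw [h5, add_comm (g r') (g r + g r'), add_assoc, h2.add_self, add_zero]
      · rcases m2 with m2 | m2 | m2 | m2
        · exact absurd m2 hr'0
        · exact Or.inr (Or.inl m2.symm)
        · right; right
          have h5 : r + r' = (g r + g r') + g r' := congrArg₂ (· + ·) m1 m2
          rw [h5, add_assoc, h2.add_self, add_zero]
        · exact absurd (m2.trans m1.symm) hne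
  -- `g` is trivial on `[V, w]`
  have triv : ∀ u ∈ DD w, g u = u := by
    intro u hu
    by_cases hu0 : u = 0
    · rw [hu0, map_zero]
    obtain ⟨x, hx⟩ := (mem_D2 h2).1 hu
    let S : Submodule F V := DD w ⊓ LinearMap.ker (polarBilin Q x)
    have hS : 3 ≤ Module.finrank F S := by
      let f : DD w →ₗ[F] F := (polarBilin Q x).comp (DD w).subtype
      have h3 := LinearMap.finrank_range_add_finrank_ker f
      have h4 : Module.finrank F (LinearMap.range f) ≤ 1 := by
        have := Submodule.finrank_le (LinearMap.range f)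
        rwa [Module.finrank_self] at this
      have h5 : (LinearMap.ker f).map (DD w).subtype ≤ S := by
        rintro _ ⟨y, hy, rfl⟩
        exact ⟨y.2, hy⟩
      have h6 := Submodule.finrank_mono h5
      rw [Submodule.finrank_map_subtype_eq] at h6
      have := h.rk
      omega
    obtain ⟨r1, hr1, hr1u⟩ : ∃ r1 ∈ S, r1 ∉ Submodule.span F {u} := by
      by_contra hn
      push Not at hn
      have h3 := Submodule.finrank_mono (show S ≤ Submodule.span F {u} from hn)
      have h4 := finrank_span_singleton_le (F := F) u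
      omega
    obtain ⟨r2, hr2, hr2u⟩ : ∃ r2 ∈ S, r2 ∉ Submodule.span F {u, r1} := by
      by_contra hn
      push Not at hn
      have h3 := Submodule.finrank_mono (show S ≤ Submodule.span F {u, r1} from hn)
      have h4 := finrank_span_pair_le (F := F) u r1
      omega
    rw [h2.mem_span] at hr1u
    rw [h2.mem_span_pair] at hr2u
    push Not at hr1u hr2u
    obtain ⟨a1, a2⟩ := hr1u
    obtain ⟨b1, b2, b3, b4⟩ := hr2u
    have hxr1 : polar Q x r1 = 0 := by simpa using hr1.2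
    have hxr2 : polar Q x r2 = 0 := by simpa using hr2.2
    have i1 := iso x r1 hr1.1 hxr1 (by rw [hx]; exact hu0) a1 (by rw [hx]; exact a2)
    have i2 := iso x r2 hr2.1 hxr2 (by rw [hx]; exact hu0) b1 (by rw [hx]; exact b2)
    rw [hx] at i1 i2
    rcases i1 with i1 | i1 | i1
    · exact i1
    · rcases i2 with i2 | i2 | i2
      · exact i2
      · exact absurd (i2.symm.trans i1) b3
      · exfalso
        apply b4
        rw [← i1, i2, ← add_assoc, h2.add_self, zero_add]
    · rcases i2 with i2 | i2 | i2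
      · exact i2
      · exact absurd (i2.symm.trans i1) b4
      · exact absurd (add_left_cancel (i2.symm.trans i1)) b3
  -- two nonzero vectors in `[V, w]`
  obtain ⟨u1, hu1, hu10⟩ : ∃ u ∈ DD w, u ≠ 0 := by
    by_contra hn
    push Not at hn
    have h3 := Submodule.finrank_mono (show DD w ≤ ⊥ from fun x hx => by
      rw [hn x hx]; exact Submodule.zero_mem _)
    have := h.rk
    rw [finrank_bot] at h3
    omega
  obtain ⟨u2, hu2, hu2n⟩ : ∃ u ∈ DD w, u ∉ Submodule.span F {u1} := by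
    by_contra hn
    push Not at hn
    have h3 := Submodule.finrank_mono (show DD w ≤ Submodule.span F {u1} from hn)
    have h4 := finrank_span_singleton_le (F := F) u1
    have := h.rk
    omega
  rw [h2.mem_span] at hu2n
  push Not at hu2n
  obtain ⟨hu20, hu21⟩ := hu2n
  have trivV : ∀ v, w v = v → g v = v := by
    intro v hv
    have key : ∀ u ∈ DD w, u ≠ 0 → g v + v = 0 ∨ g v + v = u := by
      intro u hu hu0
      have hqu := AK.sing h2 h hu
      have huv := AK.perp h2 h hu hv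
      have h3 := hg.mem (T Q u v) (T_mem_E _ _) (Tc u v (AK.fix h2 h hu) hv)
      have hugv : polar Q u (g v) = 0 := by
        have := polar_map hg.mO u v
        rw [triv u hu] at this
        rw [this, huv]
      rw [T_conj hg.mO, triv u hu, h2.T_inv, T_mul hqu hugv huv] at h3
      have hz : polar Q u (g v + v) = 0 := by rw [polar_add_right, hugv, huv, add_zero]
      rcases h2 (Q (g v + v)) with h4 | h4
      · by_contra hcon
        push Not at hcon
        exact oc.sig _ _ (h2.ln hqu h4 hz hu0 hcon.1 hcon.2) h3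
      · exact absurd h3 (hc2 u _ ⟨hqu, hu0, hz, h4⟩)
    apply h2.eq_of_add
    rcases key u1 hu1 hu10 with h3 | h3
    · exact h3
    · rcases key u2 hu2 hu20 with h4 | h4
      · exact h4
      · exact absurd (h4.symm.trans h3) hu21
  exact AK.two_of h2 oc hQ h hg.mO trivV fun x => hg.mem _ (T_mem_E _ _) (AK.tau h2 h x).2.2

/-- **Involutions of type `a_k`, `k ≥ 4`, are not in `N`.** -/
theorem OConf.ak [Finite (V ≃ₗ[F] V)] (hQ : Nondeg Q) (hd : 8 ≤ Module.finrank F V) {a b : V ≃ₗ[F] V}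
    (oc : OConf Q D N a b) {w : V ≃ₗ[F] V} (h : AK Q w) (hw1 : w ≠ 1) : w ∉ N := by
  intro hw
  have hfd : FiniteDimensional F V := Module.finite_of_finrank_pos (by omega)
  have hc2 : ∀ p q, PQ Q p q → T Q p q ∉ N := fun p q hpq => OConf.c2 h2 hQ hd oc hpq
  have hN := eq_pair_of_self hw h.sq hw1 (fun n hn hc =>
    AK.two_of_gd h2 oc.toOC hQ hc2 h hw hw1 (OC.gd h2 oc.toOC hw hw1 h.sq hn hc)) oc.core
  have key : ∀ y, (y = a ∨ y = b ∨ y = a * b) → y ≠ 1 → y = w := fun y hy hy1 =>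
    (AK.two_of_gd h2 oc.toOC hQ hc2 h hw hw1 (OConf.gd h2 oc hw hw1 h.sq hN hy)).resolve_left hy1
  exact oc.ne ((key a (Or.inl rfl) oc.a1).trans (key b (Or.inr (Or.inl rfl)) oc.b1).symm)

end

end Cfsg.Agent.OddHalf.D4.O2
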