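import Mathlib
import Cfsg.Agent.OddHalf.D4.O2.Kill

/-!
# ODD, D4, rows `Ω^±_2n(2)`: a product of two root elements in `N` has odd order
-/

set_option autoImplicit false
set_option linter.unusedSectionVars false

namespace Cfsg.Agent.OddHalf.D4.O2

open QuadraticMap Cfsg.Agent.LieClassical.OrthCore Cfsg.Agent.LieClassical.OrthTrans
  Cfsg.Agent.ClassicalGeometry.OrthAutBasic Cfsg.Agent.ClassicalGeometry.OrthAutRoot
  Cfsg.Agent.ClassicalGeometry.OrthAutSylow Cfsg.Agent.OddHalf.D4.SigmaEnd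

variable {F V : Type*} [Field F] [AddCommGroup V] [Module F V] {Q : QuadraticForm F V}

section

variable (h2 : Two F) {D N : Subgroup (V ≃ₗ[F] V)}

include h2

theorem ln_add {u w : V} (h : Ln Q u w) : Ln Q (u + w) w := by
  refine h2.ln ?_ h.qw ?_ ?_ h.ne' ?_
  · rw [Q_add, h.qu, h.qw, h.perp]; simp
  · rw [polar_add_left, h.perp, h2.polar_self, add_zero]
  · intro e
    exact Ln.ne2 h (h2.eq_of_add e).symm
  · intro e
    exact h.ne (by simpa using e.symm)

theorem T_add_left {u w : V} (h : Ln Q u w) : T Q (u + w) w = T Q u w := by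
  rw [h2.T_swap (ln_add h2 h).qu h.qw (ln_add h2 h).perp, h2.T_add_self h.qw h.perp', h2.T_swap h.qw h.qu h.perp']

theorem T_ln {u w : V} (h : Ln Q u w) (v : V) : T Q u w v = v + polar Q u v • w + polar Q w v • u := by
  rw [h2.T_apply h.qu h.perp, h.qw, zero_mul, zero_smul, add_zero]

theorem rank_two {u1 u2 u3 u4 : V} (h12 : Ln Q u1 u2) (h34 : Ln Q u3 u4) (b13 : polar Q u1 u3 = 1)
    (b24 : polar Q u2 u4 = 1) (b14 : polar Q u1 u4 = 0) (b23 : polar Q u2 u3 = 0) :
    (T Q u1 u2 * T Q u3 u4) ^ 3 = 1 := by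
  set e := T Q u1 u2 with he
  set f := T Q u3 u4 with hf
  have e2 : e * e = 1 := h2.T_sq
  have f2 : f * f = 1 := h2.T_sq
  have b31 : polar Q u3 u1 = 1 := by rw [polar_comm, b13]
  have b42 : polar Q u4 u2 = 1 := by rw [polar_comm, b24]
  have b41 : polar Q u4 u1 = 0 := by rw [polar_comm, b14]
  have b32 : polar Q u3 u2 = 0 := by rw [polar_comm, b23]
  have h3 : e * f * e = T Q (u3 + u2) (u4 + u1) := by
    have h4 := T_conj (T_mem_O (Q := Q) u1 u2) u3 u4
    rw [h2.T_inv, T_ln h2 h12 u3, T_ln h2 h12 u4, b13, b23, b14, b24, one_smul, zero_smul, zero_smul, one_smul,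
      add_zero, add_zero] at h4
    exact h4
  have h4 : f * e * f = T Q (u1 + u4) (u2 + u3) := by
    have h4 := T_conj (T_mem_O (Q := Q) u3 u4) u1 u2
    rw [h2.T_inv, T_ln h2 h34 u1, T_ln h2 h34 u2, b31, b41, b32, b42, one_smul, zero_smul, zero_smul, one_smul,
      add_zero, add_zero] at h4
    exact h4
  have q32 : Q (u3 + u2) = 0 := by rw [Q_add, h34.qu, h12.qw, b32]; simp
  have q41 : Q (u4 + u1) = 0 := by rw [Q_add, h34.qw, h12.qu, b41]; simp
  have b : polar Q (u3 + u2) (u4 + u1) = 0 := by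
    simp only [polar_add_left, polar_add_right, h34.perp, b31, b24, h12.perp']
    rw [zero_add, add_zero]
    exact h2.two
  have h5 : e * f * e = f * e * f := by
    rw [h3, h4, h2.T_swap q32 q41 b, add_comm u4 u1, add_comm u3 u2]
  calc (e * f) ^ 3 = (e * f * e) * (f * e * f) := by rw [pow_succ, pow_two]; group
    _ = (f * e * f) * (f * e * f) := by rw [h5]
    _ = f * e * (f * f) * e * f := by group
    _ = f * (e * e) * f := by rw [f2]; group
    _ = 1 := by rw [e2, mul_one, f2]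

theorem odd_of_cube {x : V ≃ₗ[F] V} (h : x ^ 3 = 1) : Odd (orderOf x) := by
  have h3 : orderOf x ∣ 3 := orderOf_dvd_of_pow_eq_one h
  exact Odd.of_dvd_nat (by decide) h3

/-- The form is zero on `⟨u1, u2⟩ × ⟨u3, u4⟩`. -/
theorem rank_zero (hQ : Nondeg Q) [FiniteDimensional F V] (oc : OC Q D N) (hak : ∀ w, AK Q w → w ≠ 1 → w ∉ N)
    {u1 u2 u3 u4 : V} (h12 : Ln Q u1 u2) (h34 : Ln Q u3 u4) (b13 : polar Q u1 u3 = 0)
    (b24 : polar Q u2 u4 = 0) (b14 : polar Q u1 u4 = 0) (b23 : polar Q u2 u3 = 0) (hN : T Q u1 u2 * T Q u3 u4 ∈ N) :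
    T Q u1 u2 * T Q u3 u4 = 1 := by
  -- a common vector
  have common : ∀ p v v', Ln Q p v → Ln Q p v' → polar Q v v' = 0 → T Q p v * T Q p v' ∈ N →
      T Q p v * T Q p v' = 1 := by
    intro p v v' h h' hb hN
    have hp : polar Q p (v + v') = 0 := by rw [polar_add_right, h.perp, h'.perp, add_zero]
    rw [T_mul h.qu h.perp h'.perp] at hN ⊢
    by_cases h0 : v + v' = 0
    · rw [h0, T_zero_right]
    by_cases h1 : v + v' = p
    · rw [h1, h2.T_self]
    exact absurd hN (oc.sig _ _ (h2.ln h.qu (by rw [Q_add, h.qw, h'.qw, hb]; simp) hp h.ne h0 h1))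
  have b31 : polar Q u3 u1 = 0 := by rw [polar_comm, b13]
  have b42 : polar Q u4 u2 = 0 := by rw [polar_comm, b24]
  have b41 : polar Q u4 u1 = 0 := by rw [polar_comm, b14]
  have b32 : polar Q u3 u2 = 0 := by rw [polar_comm, b23]
  -- `u` in the first line, `(u, v)` a basis of the second
  have case1 : ∀ u v, Ln Q u v → T Q u v = T Q u3 u4 → polar Q u1 v = 0 → polar Q u2 v = 0 →
      (u = u1 ∨ u = u2 ∨ u = u1 + u2) → T Q u1 u2 * T Q u3 u4 = 1 := by
    intro u v huv hT hb1 hb2 hu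
    rw [← hT] at hN ⊢
    rcases hu with rfl | rfl | rfl
    · exact common _ _ _ h12 huv hb2 hN
    · rw [h2.T_swap h12.qu h12.qw h12.perp] at hN ⊢
      exact common _ _ _ h12.symm huv hb1 hN
    · rw [← T_add_left h2 h12] at hN ⊢
      exact common _ _ _ (ln_add h2 h12) huv hb2 hN
  by_cases c3 : u3 ∈ Submodule.span F {u1, u2}
  · apply case1 u3 u4 h34 rfl b14 b24
    exact (h2.mem_span_pair.1 c3).resolve_left h34.ne
  by_cases c4 : u4 ∈ Submodule.span F {u1, u2}
  · apply case1 u4 u3 h34.symm (h2.T_swap h34.qw h34.qu h34.perp') b13 b23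
    exact (h2.mem_span_pair.1 c4).resolve_left h34.ne'
  by_cases c5 : u3 + u4 ∈ Submodule.span F {u1, u2}
  · apply case1 (u3 + u4) u4 (ln_add h2 h34) (T_add_left h2 h34) b14 b24
    exact (h2.mem_span_pair.1 c5).resolve_left (ln_add h2 h34).ne
  exfalso
  -- four independent vectors
  have hli : LinearIndependent F ![u1, u2, u3, u4] := by
    rw [Fintype.linearIndependent_iff]
    intro c hc
    have hc' : c 0 • u1 + c 1 • u2 + c 2 • u3 + c 3 • u4 = 0 := by
      have h3 := hc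
      simp only [Fin.sum_univ_four] at h3
      simpa using h3
    have hm : c 2 • u3 + c 3 • u4 ∈ Submodule.span F {u1, u2} := by
      have h3 : c 2 • u3 + c 3 • u4 = c 0 • u1 + c 1 • u2 := by
        have h4 : (c 0 • u1 + c 1 • u2) + (c 2 • u3 + c 3 • u4) = 0 := by rw [← hc']; abel
        exact (h2.eq_of_add h4).symm
      rw [h3]
      exact Submodule.mem_span_pair.2 ⟨_, _, rfl⟩
    have h23 : c 2 = 0 ∧ c 3 = 0 := by
      rcases h2 (c 2) with h3 | h3 <;> rcases h2 (c 3) with h4 | h4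
      · exact ⟨h3, h4⟩
      · exfalso; apply c4; simpa [h3, h4] using hm
      · exfalso; apply c3; simpa [h3, h4] using hm
      · exfalso; apply c5; simpa [h3, h4] using hm
    rw [h23.1, h23.2, zero_smul, zero_smul, add_zero, add_zero] at hc'
    have h01 := h12.coeff hc'
    intro i
    fin_cases i
    · exact h01.1
    · exact h01.2
    · exact h23.1
    · exact h23.2
  set w := T Q u1 u2 * T Q u3 u4 with hw
  have hwx : ∀ x, w x = x + polar Q u3 x • u4 + polar Q u4 x • u3 + polar Q u1 x • u2 + polar Q u2 x • u1 := by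
    intro x
    show T Q u1 u2 (T Q u3 u4 x) = _
    rw [T_ln h2 h34, T_ln h2 h12]
    simp only [polar_add_right, polar_smul_right, b14, b13, b24, b23, smul_eq_mul, mul_zero, add_zero]
  have fixu : ∀ x, polar Q u1 x = 0 → polar Q u2 x = 0 → polar Q u3 x = 0 → polar Q u4 x = 0 → w x = x := by
    intro x x1 x2 x3 x4
    rw [hwx, x1, x2, x3, x4]; simp
  have hAK : AK Q w := by
    refine ⟨(O Q).mul_mem (T_mem_O _ _) (T_mem_O _ _), ?_, ?_, ?_⟩
    · have hcomm : T Q u1 u2 * T Q u3 u4 = T Q u3 u4 * T Q u1 u2 := by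
        apply comm_of_fix (T_mem_O _ _)
        · exact T_fix b13 b23
        · exact T_fix b14 b24
      calc w * w = T Q u1 u2 * (T Q u3 u4 * T Q u1 u2) * T Q u3 u4 := by rw [hw]; group
        _ = T Q u1 u2 * (T Q u1 u2 * T Q u3 u4) * T Q u3 u4 := by rw [← hcomm]
        _ = (T Q u1 u2 * T Q u1 u2) * (T Q u3 u4 * T Q u3 u4) := by group
        _ = 1 := by rw [h2.T_sq, h2.T_sq, one_mul]
    · intro x
      rw [hwx]
      simp only [polar_add_right, polar_smul_right, h2.polar_self, smul_eq_mul]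
      rw [polar_comm Q x u1, polar_comm Q x u2, polar_comm Q x u3, polar_comm Q x u4]
      have h3 := h2.addF (polar Q u3 x * polar Q u4 x)
      have h4 := h2.addF (polar Q u1 x * polar Q u2 x)
      linear_combination h3 + h4
    · -- the four vectors are in `[V, w]`
      have hsep : ∀ i : Fin 4, ∃ x, ∀ j : Fin 4, polar Q (![u1, u2, u3, u4] j) x = if j = i then 1 else 0 := by
        intro i
        have h3 : ![u1, u2, u3, u4] i ∉ Submodule.span F (![u1, u2, u3, u4] '' {j | j ≠ i}) :=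
          hli.notMem_span_image (by simp)
        obtain ⟨x, hx1, hx2⟩ := exists_sep_sub hQ h3
        refine ⟨x, fun j => ?_⟩
        by_cases hj : j = i
        · rw [hj, if_pos rfl]; exact hx1
        · rw [if_neg hj]
          exact hx2 _ (Submodule.subset_span ⟨j, hj, rfl⟩)
      have hmem : ∀ i, ![u1, u2, u3, u4] i ∈ DD w := by
        intro i
        fin_cases i
        · obtain ⟨x, hx⟩ := hsep 1
          refine (mem_D2 h2).2 ⟨x, ?_⟩
          have x1 : polar Q u1 x = 0 := hx 0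
          have x2 : polar Q u2 x = 1 := hx 1
          have x3 : polar Q u3 x = 0 := hx 2
          have x4 : polar Q u4 x = 0 := hx 3
          rw [hwx, x1, x2, x3, x4, zero_smul, zero_smul, zero_smul, one_smul, add_zero, add_zero, add_zero,
            add_comm x u1, add_assoc, h2.add_self, add_zero]
          rfl
        · obtain ⟨x, hx⟩ := hsep 0
          refine (mem_D2 h2).2 ⟨x, ?_⟩
          have x1 : polar Q u1 x = 1 := hx 0
          have x2 : polar Q u2 x = 0 := hx 1
          have x3 : polar Q u3 x = 0 := hx 2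
          have x4 : polar Q u4 x = 0 := hx 3
          rw [hwx, x1, x2, x3, x4, zero_smul, zero_smul, zero_smul, one_smul, add_zero, add_zero, add_zero,
            add_comm x u2, add_assoc, h2.add_self, add_zero]
          rfl
        · obtain ⟨x, hx⟩ := hsep 3
          refine (mem_D2 h2).2 ⟨x, ?_⟩
          have x1 : polar Q u1 x = 0 := hx 0
          have x2 : polar Q u2 x = 0 := hx 1
          have x3 : polar Q u3 x = 0 := hx 2
          have x4 : polar Q u4 x = 1 := hx 3
          rw [hwx, x1, x2, x3, x4, zero_smul, zero_smul, zero_smul, one_smul, add_zero, add_zero, add_zero,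
            add_comm x u3, add_assoc, h2.add_self, add_zero]
          rfl
        · obtain ⟨x, hx⟩ := hsep 2
          refine (mem_D2 h2).2 ⟨x, ?_⟩
          have x1 : polar Q u1 x = 0 := hx 0
          have x2 : polar Q u2 x = 0 := hx 1
          have x3 : polar Q u3 x = 1 := hx 2
          have x4 : polar Q u4 x = 0 := hx 3
          rw [hwx, x1, x2, x3, x4, zero_smul, zero_smul, zero_smul, one_smul, add_zero, add_zero, add_zero,
            add_comm x u4, add_assoc, h2.add_self, add_zero]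
          rfl
      have h3 : Submodule.span F (Set.range ![u1, u2, u3, u4]) ≤ DD w := by
        rw [Submodule.span_le]
        rintro _ ⟨i, rfl⟩
        exact hmem i
      have h4 := Submodule.finrank_mono h3
      rw [finrank_span_eq_card hli, Fintype.card_fin] at h4
      exact h4
  refine hak w hAK ?_ hN
  intro hw1
  have h3 := hAK.rk
  have h4 : DD w ≤ ⊥ := by
    intro u hu
    obtain ⟨x, rfl⟩ := (mem_D2 h2).1 hu
    rw [hw1]
    show x + x ∈ _
    rw [h2.add_self]; exact Submodule.zero_mem _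
  have h5 := Submodule.finrank_mono h4
  rw [finrank_bot] at h5
  omega

/-- Rank one is impossible. -/
theorem rank_one (oc : OC Q D N) (hc2 : ∀ p q, PQ Q p q → T Q p q ∉ N)
    {u1 u2 u3 u4 : V} (h12 : Ln Q u1 u2) (h34 : Ln Q u3 u4) (b13 : polar Q u1 u3 = 0)
    (b24 : polar Q u2 u4 = 1) (b14 : polar Q u1 u4 = 0) (b23 : polar Q u2 u3 = 0) :
    T Q u1 u2 * T Q u3 u4 ∉ N := by
  intro hN
  have b31 : polar Q u3 u1 = 0 := by rw [polar_comm, b13]
  by_cases h13 : u1 = u3
  · subst h13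
    rw [T_mul h12.qu h12.perp h34.perp] at hN
    refine hc2 _ _ ⟨h12.qu, h12.ne, ?_, ?_⟩ hN
    · rw [polar_add_right, h12.perp, h34.perp, add_zero]
    · rw [Q_add, h12.qw, h34.qw, b24]; simp
  · have h3 : T Q u1 u2 * T Q u3 u4 * T Q u1 u2 = T Q u3 u4 * T Q u3 u1 := by
      have h4 := T_conj (T_mem_O (Q := Q) u1 u2) u3 u4
      rw [h2.T_inv, T_ln h2 h12 u3, T_ln h2 h12 u4, b13, b23, b14, b24, zero_smul, zero_smul, one_smul,
        add_zero, add_zero, add_zero] at h4
      rw [h4, T_mul h34.qu h34.perp b31]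
    have h4 := N.mul_mem hN hN
    have h5 : T Q u1 u2 * T Q u3 u4 * (T Q u1 u2 * T Q u3 u4) = T Q u3 u1 := by
      calc T Q u1 u2 * T Q u3 u4 * (T Q u1 u2 * T Q u3 u4) = (T Q u1 u2 * T Q u3 u4 * T Q u1 u2) * T Q u3 u4 := by
            group
        _ = T Q u3 u4 * T Q u3 u1 * T Q u3 u4 := by rw [h3]
        _ = T Q u3 u1 * T Q u3 u4 * T Q u3 u4 := by rw [T_comm h34.qu h34.perp b31]
        _ = T Q u3 u1 * (T Q u3 u4 * T Q u3 u4) := by group
        _ = T Q u3 u1 := by rw [h2.T_sq, mul_one]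
    rw [h5] at h4
    exact oc.sig _ _ (h2.ln h34.qu h12.qu b31 h34.ne h12.ne h13) h4

/-- **A product of two root elements in `N` has odd order.** -/
theorem odd_prod (hQ : Nondeg Q) [FiniteDimensional F V] (oc : OC Q D N) (hc2 : ∀ p q, PQ Q p q → T Q p q ∉ N)
    (hak : ∀ w, AK Q w → w ≠ 1 → w ∉ N) {u1 u2 u3 u4 : V} (h12 : Ln Q u1 u2) (h34 : Ln Q u3 u4)
    (hN : T Q u1 u2 * T Q u3 u4 ∈ N) : Odd (orderOf (T Q u1 u2 * T Q u3 u4)) := by
  -- the case `b(u2, u4) = 1`
  have main : ∀ u1 u2 u3 u4, Ln Q u1 u2 → Ln Q u3 u4 → T Q u1 u2 * T Q u3 u4 ∈ N → polar Q u2 u4 = 1 →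
      Odd (orderOf (T Q u1 u2 * T Q u3 u4)) := by
    intro u1 u2 u3 u4 h12 h34 hN b24
    have b42 : polar Q u4 u2 = 1 := by rw [polar_comm, b24]
    obtain ⟨v1, hv1, t1, b14⟩ : ∃ v1, Ln Q v1 u2 ∧ T Q v1 u2 = T Q u1 u2 ∧ polar Q v1 u4 = 0 := by
      rcases h2 (polar Q u1 u4) with h | h
      · exact ⟨u1, h12, rfl, h⟩
      · exact ⟨u1 + u2, ln_add h2 h12, T_add_left h2 h12, by rw [polar_add_left, h, b24, h2.two]⟩
    obtain ⟨v3, hv3, t3, b23⟩ : ∃ v3, Ln Q v3 u4 ∧ T Q v3 u4 = T Q u3 u4 ∧ polar Q u2 v3 = 0 := by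
      rcases h2 (polar Q u2 u3) with h | h
      · exact ⟨u3, h34, rfl, h⟩
      · exact ⟨u3 + u4, ln_add h2 h34, T_add_left h2 h34, by rw [polar_add_right, h, b24, h2.two]⟩
    rw [← t1, ← t3] at hN ⊢
    rcases h2 (polar Q v1 v3) with h | h
    · exact absurd hN (rank_one h2 oc hc2 hv1 hv3 h b24 b14 b23)
    · exact odd_of_cube h2 (rank_two h2 hv1 hv3 h b24 b14 b23)
  have s12 : T Q u1 u2 = T Q u2 u1 := h2.T_swap h12.qu h12.qw h12.perp
  have s34 : T Q u3 u4 = T Q u4 u3 := h2.T_swap h34.qu h34.qw h34.perp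
  rcases h2 (polar Q u2 u4) with b24 | b24
  swap
  · exact main _ _ _ _ h12 h34 hN b24
  rcases h2 (polar Q u1 u4) with b14 | b14
  swap
  · rw [s12] at hN ⊢
    exact main _ _ _ _ h12.symm h34 hN b14
  rcases h2 (polar Q u2 u3) with b23 | b23
  swap
  · rw [s34] at hN ⊢
    exact main _ _ _ _ h12 h34.symm hN b23
  rcases h2 (polar Q u1 u3) with b13 | b13
  swap
  · rw [s12, s34] at hN ⊢
    exact main _ _ _ _ h12.symm h34.symm hN b13
  rw [rank_zero h2 hQ oc hak h12 h34 b13 b24 b14 b23 hN, orderOf_one]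
  exact odd_one

end

end Cfsg.Agent.OddHalf.D4.O2
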