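import Mathlib
import Cfsg.Agent.OddHalf.D4.O2.Prod
import Cfsg.Agent.OddHalf.D4.O2.Core

/-!
# ODD, D4, rows `Ω^±_2n(2)`: no full pair
-/

set_option autoImplicit false
set_option linter.unusedSectionVars false

namespace Cfsg.Agent.OddHalf.D4.O2

open QuadraticMap Cfsg.Agent.LieClassical.OrthCore Cfsg.Agent.LieClassical.OrthTrans
  Cfsg.Agent.ClassicalGeometry.OrthAutBasic Cfsg.Agent.ClassicalGeometry.OrthAutRoot
  Cfsg.Agent.ClassicalGeometry.OrthAutSylow Cfsg.Agent.OddHalf.D4.SigmaEnd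

variable {F V : Type*} [Field F] [AddCommGroup V] [Module F V] {Q : QuadraticForm F V}

theorem finite_GL [Finite F] [FiniteDimensional F V] : Finite (V ≃ₗ[F] V) := by
  have hfin : Finite V := Module.finite_of_finite F
  exact Finite.of_injective (fun g => (g : V → V)) DFunLike.coe_injective

section

variable (h2 : Two F)

include h2

theorem Two.charP : CharP F 2 := CharTwo.of_one_ne_zero_of_two_eq_zero one_ne_zero h2.two'

/-- `y T y⁻¹ = T` for all root elements `T` centralised by one of the `y`. -/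
theorem OConf.cst {D N : Subgroup (V ≃ₗ[F] V)} [Finite (V ≃ₗ[F] V)] (hQ : Nondeg Q)
    (hd : 8 ≤ Module.finrank F V) {a b : V ≃ₗ[F] V} (oc : OConf Q D N a b) : Cst Q a b := by
  have hfd : FiniteDimensional F V := Module.finite_of_finrank_pos (by omega)
  refine ⟨oc.aO, oc.bO, oc.aa, oc.bb, oc.ab, oc.a1, oc.b1, oc.ne, ?_⟩
  intro y y' hy hy' u w huw hc
  have yO : y' ∈ O Q := by
    rcases hy' with rfl | rfl | rfl
    · exact oc.aO
    · exact oc.bO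
    · exact (O Q).mul_mem oc.aO oc.bO
  have hTD : T Q u w ∈ D := oc.cen y hy _ (T_mem_E u w) hc.symm
  have hTi : (T Q u w)⁻¹ = T Q u w := h2.T_inv
  have hc2 : ∀ p q, PQ Q p q → T Q p q ∉ N := fun p q hpq => OConf.c2 h2 hQ hd oc hpq
  have hak : ∀ w, AK Q w → w ≠ 1 → w ∉ N := fun w hw hw1 => OConf.ak h2 hQ hd oc hw hw1
  have hodd : ∀ g ∈ O Q, T Q u w * (g * T Q u w * g⁻¹) ∈ N →
      Odd (orderOf (T Q u w * (g * T Q u w * g⁻¹))) := by
    intro g hg hN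
    rw [T_conj hg] at hN ⊢
    exact odd_prod h2 hQ oc.toOC hc2 hak huw (huw.map hg) hN
  have hN : T Q u w * (y' * T Q u w * y'⁻¹) ∈ N := by
    have h3 := N.inv_mem (oc.comm y' hy' _ hTD)
    have h4 : (y' * T Q u w * y'⁻¹ * (T Q u w)⁻¹)⁻¹ = T Q u w * (y' * (T Q u w)⁻¹ * y'⁻¹) := by group
    rw [h4, hTi] at h3
    exact h3
  have h5 := fix_of_odd (e := T Q u w) (e' := y' * T Q u w * y'⁻¹) h2.T_sq (T_ne_one hQ huw)
    (fun n hn => oc.norm _ hTD n hn) oc.core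
    (fun n hn hnN => hodd n (E_le_O (oc.DE (oc.le hn))) hnN) (by
      calc y' * T Q u w * y'⁻¹ * (y' * T Q u w * y'⁻¹) = y' * (T Q u w * T Q u w) * y'⁻¹ := by group
        _ = 1 := by rw [h2.T_sq]; group) hN (hodd y' yO hN)
  rw [mul_inv_eq_iff_eq_mul] at h5
  exact h5

/-- Isometries commuting with `E Q`. -/
theorem eq_one_of_comm [Finite F] (hB : Big Q) {g : V ≃ₗ[F] V} (hg : g ∈ O Q)
    (hc : ∀ x ∈ E Q, g * x = x * g) : g = 1 := by
  obtain ⟨c, hc1, hv⟩ := eq_smul_of_central hB hg fun u w _ => hc _ (T_mem_E u w)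
  ext v
  rw [hv v]
  rcases hc1 with e | e
  · rw [e, one_smul]; rfl
  · rw [e, h2.negF, one_smul]; rfl

/-- **No configuration in `Ω(V)`.** -/
theorem false_of_conf (hQ : Nondeg Q) (hd : 8 ≤ Module.finrank F V)
    (haut : ∀ φ : MulAut ↥(E Q), ∃ g ∈ O Q, ∀ x : ↥(E Q), ((φ x : ↥(E Q)) : V ≃ₗ[F] V) = g * x * g⁻¹)
    {α β : MulAut ↥(E Q)} {D N : Subgroup ↥(E Q)} (h : Conf α β D N) : False := by
  have hF := h2.finite
  have hfd : FiniteDimensional F V := Module.finite_of_finrank_pos (by omega)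
  have hfin : Finite (V ≃ₗ[F] V) := finite_GL
  have hB : Big Q := ⟨hQ, by omega⟩
  have hchar := h2.charP
  obtain ⟨a, haO, ha⟩ := haut α
  obtain ⟨b, hbO, hb⟩ := haut β
  have hab' : ∀ x : ↥(E Q), (((α * β) x : ↥(E Q)) : V ≃ₗ[F] V) = (a * b) * x * (a * b)⁻¹ := by
    intro x
    show ((α (β x) : ↥(E Q)) : V ≃ₗ[F] V) = _
    rw [ha, hb]; group
  have uniq : ∀ g g' : V ≃ₗ[F] V, g ∈ O Q → g' ∈ O Q → (∀ x ∈ E Q, g * x * g⁻¹ = g' * x * g'⁻¹) → g = g' := by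
    intro g g' hg hg' h3
    have h4 : g'⁻¹ * g = 1 := by
      apply eq_one_of_comm h2 hB ((O Q).mul_mem ((O Q).inv_mem hg') hg)
      intro x hx
      have h5 := h3 x hx
      calc g'⁻¹ * g * x = g'⁻¹ * (g * x * g⁻¹) * g := by group
        _ = g'⁻¹ * (g' * x * g'⁻¹) * g := by rw [h5]
        _ = x * (g'⁻¹ * g) := by group
    calc g = g' * (g'⁻¹ * g) := by group
      _ = g' := by rw [h4, mul_one]
  have inj : ∀ (φ ψ : MulAut ↥(E Q)) (g g' : V ≃ₗ[F] V), g ∈ O Q → g' ∈ O Q →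
      (∀ x : ↥(E Q), ((φ x : ↥(E Q)) : V ≃ₗ[F] V) = g * x * g⁻¹) →
      (∀ x : ↥(E Q), ((ψ x : ↥(E Q)) : V ≃ₗ[F] V) = g' * x * g'⁻¹) → (φ = ψ ↔ g = g') := by
    intro φ ψ g g' hg hg' h3 h4
    constructor
    · intro e
      apply uniq g g' hg hg'
      intro x hx
      rw [← h3 ⟨x, hx⟩, ← h4 ⟨x, hx⟩, e]
    · intro e
      ext x
      rw [h3, h4, e]
  have hone : ∀ x : ↥(E Q), (((1 : MulAut ↥(E Q)) x : ↥(E Q)) : V ≃ₗ[F] V) = 1 * x * 1⁻¹ := by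
    intro x
    show (x : V ≃ₗ[F] V) = _
    rw [one_mul, inv_one, mul_one]
  have hmulf : ∀ (φ ψ : MulAut ↥(E Q)) (g g' : V ≃ₗ[F] V),
      (∀ x : ↥(E Q), ((φ x : ↥(E Q)) : V ≃ₗ[F] V) = g * x * g⁻¹) →
      (∀ x : ↥(E Q), ((ψ x : ↥(E Q)) : V ≃ₗ[F] V) = g' * x * g'⁻¹) →
      ∀ x : ↥(E Q), (((φ * ψ) x : ↥(E Q)) : V ≃ₗ[F] V) = (g * g') * x * (g * g')⁻¹ := by
    intro φ ψ g g' h3 h4 x
    show ((φ (ψ x) : ↥(E Q)) : V ≃ₗ[F] V) = _
    rw [h3, h4]; group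
  have haa : a * a = 1 := (inj _ _ _ _ ((O Q).mul_mem haO haO) (O Q).one_mem (hmulf _ _ _ _ ha ha) hone).1 h.aa
  have hbb : b * b = 1 := (inj _ _ _ _ ((O Q).mul_mem hbO hbO) (O Q).one_mem (hmulf _ _ _ _ hb hb) hone).1 h.bb
  have hab : a * b = b * a := (inj _ _ _ _ ((O Q).mul_mem haO hbO) ((O Q).mul_mem hbO haO)
    (hmulf _ _ _ _ ha hb) (hmulf _ _ _ _ hb ha)).1 h.ab
  have ha1 : a ≠ 1 := fun e => h.a1 ((inj _ _ _ _ haO (O Q).one_mem ha hone).2 e)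
  have hb1 : b ≠ 1 := fun e => h.b1 ((inj _ _ _ _ hbO (O Q).one_mem hb hone).2 e)
  have hne : a ≠ b := fun e => h.ne ((inj _ _ _ _ haO hbO ha hb).2 e)
  -- the correspondence
  have corr : ∀ y, (y = a ∨ y = b ∨ y = a * b) → ∃ γ : MulAut ↥(E Q), (γ = α ∨ γ = β ∨ γ = α * β) ∧
      ∀ x : ↥(E Q), ((γ x : ↥(E Q)) : V ≃ₗ[F] V) = y * x * y⁻¹ := by
    rintro y (rfl | rfl | rfl)
    · exact ⟨α, Or.inl rfl, ha⟩
    · exact ⟨β, Or.inr (Or.inl rfl), hb⟩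
    · exact ⟨α * β, Or.inr (Or.inr rfl), hab'⟩
  have corr' : ∀ γ : MulAut ↥(E Q), (γ = α ∨ γ = β ∨ γ = α * β) → ∃ y, y ∈ O Q ∧ y * y = 1 ∧ y ≠ 1 ∧
      ∀ x : ↥(E Q), ((γ x : ↥(E Q)) : V ≃ₗ[F] V) = y * x * y⁻¹ := by
    rintro γ (rfl | rfl | rfl)
    · exact ⟨a, haO, haa, ha1, ha⟩
    · exact ⟨b, hbO, hbb, hb1, hb⟩
    · refine ⟨a * b, (O Q).mul_mem haO hbO, ?_, ?_, hab'⟩
      · calc a * b * (a * b) = a * (b * a) * b := by group
          _ = a * (a * b) * b := by rw [hab]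
          _ = (a * a) * (b * b) := by group
          _ = 1 := by rw [haa, hbb, one_mul]
      · intro e
        apply hne
        calc a = a * (b * b) := by rw [hbb, mul_one]
          _ = (a * b) * b := by group
          _ = b := by rw [e, one_mul]
  have hNO : NoOdd N := noOdd_of_conf h (by
    intro γ hγ X hX1 hX2 hX3
    obtain ⟨y, hyO, hyy, hy1, hy⟩ := corr' γ hγ
    have h3 := core_trivial h2 hQ hd hyO hyy hy1 (X := X.map (E Q).subtype) (Subgroup.map_subtype_le X) (by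
      rintro _ ⟨x, hx, rfl⟩
      have h4 := hy x
      rw [hX1 x hx] at h4
      show (x : V ≃ₗ[F] V) * y = y * x
      nth_rewrite 1 [h4]
      group) (by
      rintro g hg hgy _ ⟨x, hx, rfl⟩
      refine ⟨⟨g, hg⟩ * x * ⟨g, hg⟩⁻¹, hX2 ⟨g, hg⟩ (Subtype.ext ?_) x hx, rfl⟩
      rw [hy]
      show y * g * y⁻¹ = g
      rw [← hgy]; group) (by
      rw [Nat.card_congr (X.equivMapOfInjective _ (E Q).subtype_injective).toEquiv.symm]
      exact hX3)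
    rwa [Subgroup.map_eq_bot_iff_of_injective _ (E Q).subtype_injective] at h3)
  refine Cst.false (a := a) (b := b) h2 (OConf.cst h2 (D := D.map (E Q).subtype) (N := N.map (E Q).subtype) (a := a) (b := b) hQ hd ?_) hQ hd
  have mem_map : ∀ (H : Subgroup ↥(E Q)) (x : ↥(E Q)), (x : V ≃ₗ[F] V) ∈ H.map (E Q).subtype ↔ x ∈ H := by
    intro H x
    constructor
    · rintro ⟨x', hx', e⟩
      have : x' = x := Subtype.ext e
      rwa [this] at hx'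
    · intro hx
      exact ⟨x, hx, rfl⟩
  have ord2 : ∀ n : ↥(E Q), (n : V ≃ₗ[F] V) ≠ 1 → (n : V ≃ₗ[F] V) * n = 1 → orderOf n = 2 := by
    intro n hn1 hn2
    apply orderOf_eq_prime
    · rw [pow_two]; exact Subtype.ext hn2
    · intro e; exact hn1 (congrArg Subtype.val e)
  refine ⟨⟨?_, ?_, ?_, ?_, ?_⟩, haO, hbO, haa, hbb, hab, ha1, hb1, hne, ?_, ?_, ?_⟩
  · exact Subgroup.map_mono h.le
  · exact Subgroup.map_subtype_le D
  · rintro _ ⟨d, hd', rfl⟩ _ ⟨n, hn, rfl⟩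
    exact ⟨d * n * d⁻¹, h.norm d hd' n hn, rfl⟩
  · rintro _ ⟨n, hn, rfl⟩ hn1 hn2 x hx hxn
    exact ⟨⟨x, hx⟩, h.cenN n hn (ord2 n hn1 hn2) ⟨x, hx⟩ (Subtype.ext hxn), rfl⟩
  · intro u w huw hmem
    have h3 : (⟨T Q u w, T_mem_E u w⟩ : ↥(E Q)) ∈ N := (mem_map N ⟨T Q u w, T_mem_E u w⟩).1 hmem
    have hp : Fact (Nat.Prime 2) := ⟨Nat.prime_two⟩
    obtain ⟨P, hP1, hP2, _, _⟩ := exists_sylow hB huw 2
    obtain ⟨s, hs, hns⟩ := h.noCenN _ h3 (ord2 _ (T_ne_one hQ huw) h2.T_sq) P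
    apply hns
    apply Subtype.ext
    show (s : V ≃ₗ[F] V) * T Q u w = T Q u w * s
    obtain ⟨c, hc⟩ := hP2 s hs
    have h4 := T_conj (E_le_O s.2) u w
    rw [hP1 s hs, hc, T_add_smul huw.qu huw.perp, mul_inv_eq_iff_eq_mul] at h4
    exact h4
  · intro y hy x hx hxy
    obtain ⟨γ, hγ, h3⟩ := corr y hy
    refine ⟨⟨x, hx⟩, h.cen γ hγ ⟨x, hx⟩ (Subtype.ext ?_), rfl⟩
    rw [h3]
    show y * x * y⁻¹ = x
    rw [← hxy]; group
  · rintro y hy _ ⟨d, hd', rfl⟩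
    obtain ⟨γ, hγ, h3⟩ := corr y hy
    refine ⟨γ d * d⁻¹, h.comm γ hγ d hd', ?_⟩
    show ((γ d : ↥(E Q)) : V ≃ₗ[F] V) * (d : V ≃ₗ[F] V)⁻¹ = _
    rw [h3]
    rfl
  · intro X hXN hXn hXo
    have hXE : X ≤ E Q := hXN.trans (Subgroup.map_subtype_le N)
    have h3 := hNO (X.subgroupOf (E Q)) (by
      intro x hx
      exact (mem_map N x).1 (hXN (Subgroup.mem_subgroupOf.1 hx))) (by
      intro n hn x hx
      rw [Subgroup.mem_subgroupOf] at hx ⊢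
      exact hXn n ((mem_map N n).2 hn) x hx) (by
      rw [Nat.card_congr (Subgroup.subgroupOfEquivOfLe hXE).toEquiv]
      exact hXo)
    rw [eq_bot_iff]
    intro x hx
    have h4 : (⟨x, hXE hx⟩ : ↥(E Q)) ∈ X.subgroupOf (E Q) := Subgroup.mem_subgroupOf.2 hx
    rw [h3, Subgroup.mem_bot] at h4
    exact congrArg Subtype.val h4

end

end Cfsg.Agent.OddHalf.D4.O2
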