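import Mathlib
import Cfsg.Agent.OddHalf.D4.O2.Main
import Cfsg.Agent.OddHalf.D4.O2.Aut
import Cfsg.Agent.OddHalf.D4.Orth2.Facts
import Cfsg.Agent.OddHalf.D4.Start

/-!
# ODD, D4: the rows `Ω⁺_2m(2)`, `m ≥ 5`, and `Ω⁻_2m(2)`, `m ≥ 4`
-/

set_option autoImplicit false
set_option linter.unusedSectionVars false

namespace Cfsg.Agent.OddHalf.D4.O2

open QuadraticMap Cfsg.Agent.LieClassical.OrthCore Cfsg.Agent.LieClassical.OrthTrans
  Cfsg.Agent.OddHalf.D4.Basic Cfsg.Agent.LieClassical Cfsg.Agent.ClassicalGeometry.OrthAut1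

universe u

section

variable {F V : Type*} [Field F] [AddCommGroup V] [Module F V] {Q : QuadraticForm F V}

theorem core_conj {X : Type*} [Group X] {a g x : X} (hg : g * a = a * g) (hx : x ∈ centralizerPPrimeCore 2 a) :
    g * x * g⁻¹ ∈ centralizerPPrimeCore 2 a := by
  obtain ⟨x', hx', rfl⟩ := hx
  have hgc : g ∈ Subgroup.centralizer ({a} : Set X) := Subgroup.mem_centralizer_singleton_iff.mpr hg
  exact ⟨⟨g, hgc⟩ * x' * ⟨g, hgc⟩⁻¹, (Cfsg.Agent.Lib.Cores.pPrimeCore_normal 2).conj_mem _ hx' _, rfl⟩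

/-- (F0): `O(C(a)) = 1`. -/
theorem bal_E (h2 : Two F) (hQ : Nondeg Q) (hd : 8 ≤ Module.finrank F V) (a : ↥(E Q)) (ha : orderOf a = 2) :
    centralizerPPrimeCore 2 a = ⊥ := by
  have hF := h2.finite
  have hfd : FiniteDimensional F V := Module.finite_of_finrank_pos (by omega)
  have hfin : Finite (V ≃ₗ[F] V) := finite_GL
  have haa : a * a = 1 := by rw [← pow_two, ← ha]; exact pow_orderOf_eq_one a
  have ha1 : a ≠ 1 := by
    rintro rfl
    rw [orderOf_one] at ha
    omega
  have hcen : ∀ x ∈ centralizerPPrimeCore 2 a, x * a = a * x := by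
    rintro _ ⟨⟨x, hx⟩, _, rfl⟩
    exact Subgroup.mem_centralizer_singleton_iff.mp hx
  have hcard : Odd (Nat.card ↥(centralizerPPrimeCore 2 a)) := by
    have h3 := Cfsg.Agent.Lib.Cores.pPrimeCore_coprime (G := ↥(Subgroup.centralizer ({a} : Set ↥(E Q)))) 2
    rw [← Nat.coprime_two_right]
    unfold centralizerPPrimeCore
    rwa [Nat.card_congr ((pPrimeCore 2 ↥(Subgroup.centralizer ({a} : Set ↥(E Q)))).equivMapOfInjective _
      (Subgroup.subtype_injective _)).toEquiv.symm]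
  have h3 := core_trivial h2 hQ hd (y := (a : V ≃ₗ[F] V)) (E_le_O a.2) (congrArg Subtype.val haa)
    (fun e => ha1 (Subtype.ext e)) (X := (centralizerPPrimeCore 2 a).map (E Q).subtype)
    (Subgroup.map_subtype_le _) (by
      rintro _ ⟨x, hx, rfl⟩
      exact congrArg Subtype.val (hcen x hx)) (by
      rintro g hg hga _ ⟨x, hx, rfl⟩
      exact ⟨⟨g, hg⟩ * x * ⟨g, hg⟩⁻¹, core_conj (g := ⟨g, hg⟩) (Subtype.ext hga) hx, rfl⟩) (by
      rw [Nat.card_congr ((centralizerPPrimeCore 2 a).equivMapOfInjective _ (E Q).subtype_injective).toEquiv.symm]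
      exact hcard)
  rwa [Subgroup.map_eq_bot_iff_of_injective _ (E Q).subtype_injective] at h3

end

/-- `X` is one of the groups `Ω(V)` of this folder. -/
def IsE (X : Type u) [Group X] : Prop :=
  ∃ (F : Type) (V : Type) (_ : Field F) (_ : AddCommGroup V) (_ : Module F V) (Q : QuadraticForm F V),
    Two F ∧ Nondeg Q ∧ 8 ≤ Module.finrank F V ∧
    (∀ φ : MulAut ↥(E Q), ∃ g ∈ O Q, ∀ x : ↥(E Q), ((φ x : ↥(E Q)) : V ≃ₗ[F] V) = g * x * g⁻¹) ∧
    Nonempty (X ≃* ↥(E Q))

/-- **The facts of D4.** -/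
theorem IsE.autFacts {X : Type u} [Group X] (h : IsE X) : AutFacts X := by
  obtain ⟨F, V, _, _, _, Q, h2, hQ, hd, haut, ⟨e⟩⟩ := h
  have hF := h2.finite
  have hfd : FiniteDimensional F V := Module.finite_of_finrank_pos (by omega)
  have hfin : Finite (V ≃ₗ[F] V) := finite_GL
  have hfX : Finite X := Finite.of_equiv _ e.symm.toEquiv
  exact AutOne.of_equiv e (Orth2.Facts.autFacts h2 hQ hd haut (bal_E h2 hQ hd))

/-- **No configuration.** -/
theorem IsE.false_of_conf {X : Type u} [Group X] (h : IsE X) {α β : MulAut X} {D N : Subgroup X}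
    (hc : Conf α β D N) : False := by
  obtain ⟨F, V, _, _, _, Q, h2, hQ, hd, haut, ⟨e⟩⟩ := h
  exact O2.false_of_conf h2 hQ hd haut (hc.map e)

/-- **A row of `Cut.lean` from `AutFacts` and "no configuration".** -/
theorem row_of_noConf (h1173 : Start.P1173.{u}) {P : (K : Type u) → [Group K] → Prop}
    (hF : ∀ (X : Type u) [Group X] [Finite X] [IsSimpleGroup X], P X → AutFacts X)
    (hno : ∀ (X : Type u) [Group X] [Finite X] [IsSimpleGroup X], P X →
      ∀ (α β : MulAut X) (D N : Subgroup X), Conf α β D N → False) : Cut.Row1.{u} P := by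
  apply Start.row_of_pair h1173 hF
  intro G _ hG K L Q U _ hD hp hP
  have := hG.fin
  have := hD.simple
  have hrL : Rk2 L := by
    obtain ⟨g, _, rfl⟩ := hp.conj
    exact hD.rk.cj g
  obtain ⟨y, hy, u, hu, hy2, hu2, hyu, hne⟩ := hrL.exists_syl hp.sylU
  have hUK := hp.leU hD.loc.tight hD.loc.even
  exact hno ↥K hP _ _ _ _ (hp.conf hD.loc (hUK hy) (hUK hu) (hp.sylU.le hy) (hp.sylU.le hu) hy2 hu2 hyu hne)

theorem row_isE (h1173 : Start.P1173.{u}) : Cut.Row1.{u} (fun K _ => IsE K) :=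
  row_of_noConf h1173 (fun _ _ _ _ h => h.autFacts) fun _ _ _ _ h _ _ _ _ hc => h.false_of_conf hc

theorem two_of_card {F : Type*} [Field F] [Fintype F] (h : Fintype.card F = 2) : Two F := by
  classical
  intro a
  by_contra hcon
  push Not at hcon
  have h3 : ({0, 1, a} : Finset F).card ≤ Fintype.card F := Finset.card_le_univ _
  rw [h, Finset.card_insert_of_notMem (by
    simp only [Finset.mem_insert, Finset.mem_singleton, not_or]
    exact ⟨zero_ne_one, hcon.1.symm⟩), Finset.card_insert_of_notMem (by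
    simp only [Finset.mem_singleton]
    exact hcon.2.symm), Finset.card_singleton] at h3
  omega

theorem exists_congr {ι : Type} [Fintype ι] [DecidableEq ι] {F : Type*} [Field F] {q q' : (ι → F) → F} (h : q = q') :
    Nonempty (POmega F q ≃* POmega F q') := by
  subst h
  exact ⟨MulEquiv.refl _⟩

/-- The transport. -/
theorem isE_of_equiv {X : Type u} [Group X] {ι F : Type} [Fintype ι] [DecidableEq ι] [Field F] {q : (ι → F) → F}
    (e : X ≃* POmega F q) (Q : QuadraticForm F (ι → F)) (hq : ⇑Q = q) (h2 : Two F) (hG : Good Q)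
    (h8 : 8 ≤ Module.finrank F (ι → F))
    (h4 : Module.finrank F (ι → F) = 8 → ∀ (W : Submodule F (ι → F)), TS Q W → Module.finrank F ↥W ≠ 4) : IsE X := by
  obtain ⟨e'⟩ := exists_congr hq.symm
  have hF := h2.finite
  exact ⟨F, ι → F, _, _, _, Q, h2, hG.nondeg, h8, exists_iso h2 hG (by omega) h4,
    ⟨(e.trans e').trans ((AutOrth.Main.pe hG).trans (eP h2 hG).symm)⟩⟩

theorem isE_plus {X : Type u} [Group X] (h : Cut.Op2 X) : IsE X := by
  obtain ⟨F, _, _, m, hF, hm, ⟨e⟩⟩ := h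
  have h2 := two_of_card hF
  have hG : Good (QuadForms.plusForm m F) := AutOrth.Main.good_plus (by omega)
  have hr : Module.finrank F (Fin m ⊕ Fin m → F) = m + m := by
    rw [Module.finrank_fintype_fun_eq_card, Fintype.card_sum, Fintype.card_fin]
  exact isE_of_equiv e _ (QuadForms.coe_plusForm m) h2 hG (by omega) (fun h8 => by omega)

theorem isE_minus {X : Type u} [Group X] (h : Cut.Om2 X) : IsE X := by
  obtain ⟨F, _, _, m, b, c, hF, hm, hbc, ⟨e⟩⟩ := h
  have h2 := two_of_card hF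
  have hG : Good (QuadForms.minusForm (m - 1) F b c) := AutOrth.Main.good_minus (by omega) hbc
  have hr : Module.finrank F ((Fin (m - 1) ⊕ Fin (m - 1)) ⊕ Fin 2 → F) = (m - 1) + (m - 1) + 2 := by
    rw [Module.finrank_fintype_fun_eq_card, Fintype.card_sum, Fintype.card_sum, Fintype.card_fin, Fintype.card_fin]
  refine isE_of_equiv e _ (QuadForms.coe_minusForm (m - 1) b c) h2 hG (by omega) (fun h8 W hW h4 => ?_)
  have h1 := AutOrth.Main.finrank_le_of_TS_minus (m - 1) b c hbc hW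
  omega

/-- **The row `Ω⁺_2m(2)`, `m ≥ 5`.** -/
theorem row_op2 (h1173 : Start.P1173.{u}) : Cut.Row1.{u} (fun K _ => Cut.Op2 K) :=
  (row_isE h1173).mono fun _ _ h => isE_plus h

/-- **The row `Ω⁻_2m(2)`, `m ≥ 4`.** -/
theorem row_om2 (h1173 : Start.P1173.{u}) : Cut.Row1.{u} (fun K _ => Cut.Om2 K) :=
  (row_isE h1173).mono fun _ _ h => isE_minus h

end Cfsg.Agent.OddHalf.D4.O2
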